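import Cfsg.Agent.H160.PD.One
import Cfsg.Agent.S4613
import Cfsg.Prelude.Def_KGroupFacts

/-!
# Rows of S4246: tools (helper874)
-/

set_option autoImplicit false

namespace Cfsg.Agent.H874.PD

open Subgroup Cfsg.Agent.H160.PD

variable {S : Type*} [Group S]

theorem out_eq_card : out S = Nat.card (Cfsg.Out S) := rfl

theorem Fx_conj (s : S) : Fx (MulAut.conj s) = centralizer {s} := by
  ext y
  rw [mem_Fx, mem_centralizer_singleton_iff, MulAut.conj_apply, mul_inv_eq_iff_eq_mul]
  exact eq_comm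

theorem orderOf_conj' (hZ : center S = ⊥) (s : S) : orderOf (MulAut.conj s) = orderOf s :=
  orderOf_injective (MulAut.conj : S →* MulAut S) (conj_injective hZ) s

variable [Finite S]

/-- an automorphism of prime order `≠ p` centralises no Sylow `p`-subgroup -/
theorem v_Fx_lt [IsSimpleGroup S] {p : ℕ} (hp : p.Prime) (h : Cfsg.IsLieTypeChar p S) {b : MulAut S}
    (hb : (orderOf b).Prime) (hbp : orderOf b ≠ p) : v p (Fx b) < v p S := by
  have := Fact.mk hp
  by_contra hlt
  have hle : v p (Fx b) ≤ v p S := by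
    have h1 : Nat.card ↥(Fx b) ∣ Nat.card S := card_subgroup_dvd_card _
    exact (Nat.factorization_le_iff_dvd Nat.card_pos.ne' Nat.card_pos.ne').2 h1 p
  have heq : v p (Fx b) = v p S := le_antisymm hle (not_lt.1 hlt)
  let Q : Sylow p ↥(Fx b) := default
  have hQ : Nat.card ↥((Q : Subgroup ↥(Fx b)).map (Fx b).subtype) = p ^ (Nat.card S).factorization p := by
    rw [← Nat.card_congr ((Q : Subgroup ↥(Fx b)).equivMapOfInjective _ (subtype_injective _)).toEquiv,
      Q.card_eq_multiplicity]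
    exact congrArg _ heq
  have h1 := Cfsg.Agent.S4613.result p h b (fun h2 => hbp ((Nat.prime_dvd_prime_iff_eq hp hb).1 h2).symm)
    (Sylow.ofCard _ hQ) (by
      rintro x ⟨y, -, rfl⟩
      exact y.2)
  rw [h1, orderOf_one] at hb
  exact hb.one_lt.ne rfl

/-- the order of an element divides the order of its centraliser -/
theorem v_eq_zero_of_order {G : Type*} [Group G] [Finite G] {A : Subgroup G} {r : ℕ} (hr : r.Prime)
    (h : ∀ y ∈ A, orderOf y ≠ r) : v r A = 0 := by
  apply v_eq_zero
  intro hd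
  obtain ⟨y, hy, ho⟩ := Cfg.exists_mem hr hd
  exact h y hy ho

/-- **Characteristic two, `|Out|` odd, an isolated prime.** -/
theorem row_two [IsSimpleGroup S] (hna : ¬ IsMulCommutative S) (hL : Cfsg.IsLieTypeChar 2 S)
    (hout : ¬ 2 ∣ out S) {l : ℕ} (hl : Good S l)
    (hin : ∀ x : S, orderOf x = l → ∀ a : MulAut S, a x = x → ∃ s : S, a = MulAut.conj s)
    (hC : ∀ x : S, orderOf x = l → ∀ y : S, (orderOf y).Prime → orderOf y ≠ 2 → x * y = y * x →
      ∀ z : S, orderOf z = 2 → y * z ≠ z * y) : Row S := by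
  have hZ := Cfsg.Agent.H160.PD.center_eq_bot hna
  have key : ∀ x : S, orderOf x = l → ∀ y : S, (orderOf y).Prime → orderOf y ≠ 2 → x * y = y * x →
      v 2 (centralizer {y}) = 0 := by
    intro x hx y hy hy2 hxy
    refine v_eq_zero_of_order Nat.prime_two fun z hz hz2 => hC x hx y hy hy2 hxy z hz2 ?_
    exact (mem_centralizer_singleton_iff.1 hz).symm
  have hout' : (out S).factorization 2 = 0 := Nat.factorization_eq_zero_of_not_dvd hout
  refine row_iso hZ (c := 0) hl (fun x hx => ?_) (fun b hb hb2 x hx hbx => ?_) (fun b hb hb2 => ?_)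
  · exact (key x hx x (hx ▸ hl.prime) (hx ▸ hl.odd) rfl).le
  · obtain ⟨s, rfl⟩ := hin x hx b hbx
    rw [orderOf_conj' hZ] at hb hb2
    rw [Fx_conj]
    refine (key x hx s hb hb2 ?_).le
    rw [MulAut.conj_apply, mul_inv_eq_iff_eq_mul] at hbx
    exact hbx.symm
  · rw [hout']
    have := v_Fx_lt Nat.prime_two hL hb hb2
    omega

end Cfsg.Agent.H874.PD
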