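import Cfsg.Agent.H874.PD.Ree

/-!
# Rows of S4246: the small Ree groups, assembly (helper874)
-/

set_option autoImplicit false

namespace Cfsg.Agent.H874.PD

open Subgroup Cfsg Cfsg.Lie Cfsg.Agent.H160.PD Cfsg.Agent.H568 Cfsg.Agent.H967.CopMat Cfsg.Agent.H967.CopSz
  Cfsg.Agent.H798.RowTw

universe u

/-- the `3`-part of the centraliser of an element of prime order `≠ 3` -/
theorem ree_cent {F : Type*} [Field F] [Fintype F] {m : ℕ} (hm : 1 ≤ m) (hF : Fintype.card F = 3 ^ (2 * m + 1))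
    (hv : v 3 ↥(twistedG2 F (3 ^ m)) = 3 * (2 * m + 1)) {k : ↥(twistedG2 F (3 ^ m))} (hk : (orderOf k).Prime)
    (hk3 : orderOf k ≠ 3) : v 3 (centralizer {k}) ≤ 2 * (2 * m + 1) := by
  have hf3 : Fact (Nat.Prime 3) := ⟨Nat.prime_three⟩
  obtain ⟨U, h, n, D⟩ := Cfsg.Agent.ChevalleyStructure.Ree.Data.exists_data hF
  let R0 : Sylow 3 ↥(centralizer ({k} : Set ↥(twistedG2 F (3 ^ m)))) := default
  obtain ⟨R, hR⟩ : ∃ R : Subgroup ↥(twistedG2 F (3 ^ m)),
    R = (R0 : Subgroup ↥(centralizer ({k} : Set ↥(twistedG2 F (3 ^ m))))).map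
      (centralizer ({k} : Set ↥(twistedG2 F (3 ^ m)))).subtype := ⟨_, rfl⟩
  have hRc : Nat.card ↥R = 3 ^ v 3 (centralizer ({k} : Set ↥(twistedG2 F (3 ^ m)))) := by
    rw [hR, ← Nat.card_congr ((R0 : Subgroup ↥(centralizer ({k} : Set ↥(twistedG2 F (3 ^ m))))).equivMapOfInjective _
      (subtype_injective _)).toEquiv, R0.card_eq_multiplicity]
  have hRp : IsPGroup 3 ↥R := IsPGroup.of_card hRc
  have hRk : ∀ y ∈ R, y * k = k * y := by
    intro y hy
    rw [hR] at hy
    obtain ⟨z, -, rfl⟩ := hy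
    exact mem_centralizer_singleton_iff.1 z.2
  have h1 := exp_three D hF hv hRp (fun y hy => by
    by_contra hy3
    obtain ⟨i, hi⟩ := (IsPGroup.iff_orderOf.1 hRp) ⟨y, hy⟩
    rw [Subgroup.orderOf_mk] at hi
    have hi2 : 2 ≤ i := by
      by_contra hlt
      apply hy3
      have h2 : i = 0 ∨ i = 1 := by omega
      rw [← orderOf_dvd_iff_pow_eq_one, hi]
      rcases h2 with rfl | rfl
      · norm_num
      · norm_num
    obtain ⟨i', rfl⟩ := Nat.exists_eq_add_of_le hi2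
    have hy9 : orderOf (y ^ 3 ^ i') = 9 := by
      rw [orderOf_pow_of_dvd (by positivity) (by rw [hi]; exact pow_dvd_pow _ (by omega)), hi,
        Nat.pow_div (by omega) (by norm_num), Nat.add_sub_cancel]
    have h2 := orderOf_mul_prime (x := y ^ 3 ^ i') (y := k) hk hy9 rfl (by
      intro h3
      have h4 : orderOf k ∣ 3 ^ 2 := by simpa using h3
      exact hk3 ((Nat.prime_dvd_prime_iff_eq hk Nat.prime_three).1 (hk.dvd_of_dvd_pow h4)))
      ((show Commute y k from hRk y hy).pow_left _).eq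
    exact (ar m).no9r hk ((Cfsg.Agent.S1159.result hm hF _).1 ⟨_, h2⟩))
  have h2 : v 3 R = v 3 (centralizer ({k} : Set ↥(twistedG2 F (3 ^ m)))) := by
    show (Nat.card ↥R).factorization 3 = _
    rw [hRc, Nat.Prime.factorization_pow Nat.prime_three, Finsupp.single_eq_same]
  rwa [h2] at h1

/-- the order of the normaliser of a torus -/
theorem ree_norm {F : Type*} [Field F] [Fintype F] {m : ℕ} (hm : 1 ≤ m) (hF : Fintype.card F = 3 ^ (2 * m + 1))
    {A : Subgroup ↥(twistedG2 F (3 ^ m))} (hA : IsCyclic ↥A) {a b : ℕ} (hab : (a, b) ∈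
      ({((3 ^ (2 * m + 1) - 1) / 2, 2 * (3 ^ (2 * m + 1) - 1)), ((3 ^ (2 * m + 1) + 1) / 4, 6 * (3 ^ (2 * m + 1) + 1)),
        (3 ^ (2 * m + 1) - 3 ^ (m + 1) + 1, 6 * (3 ^ (2 * m + 1) - 3 ^ (m + 1) + 1)),
        (3 ^ (2 * m + 1) + 3 ^ (m + 1) + 1, 6 * (3 ^ (2 * m + 1) + 3 ^ (m + 1) + 1))} : Set (ℕ × ℕ)))
    (hAa : Nat.card ↥A = a) : Nat.card ↥(normalizer (A : Set ↥(twistedG2 F (3 ^ m)))) = b := by
  obtain ⟨B, hB, hBa, hBb, -⟩ := Cfsg.Agent.S1158.result hm hF (a, b) hab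
  have hd : a ∣ (3 ^ (2 * m + 1) - 1) / 2 ∨ a ∣ (3 ^ (2 * m + 1) + 1) / 4 ∨ a ∣ 3 ^ (2 * m + 1) - 3 ^ (m + 1) + 1 ∨
      a ∣ 3 ^ (2 * m + 1) + 3 ^ (m + 1) + 1 := by
    simp only [Set.mem_insert_iff, Set.mem_singleton_iff, Prod.mk.injEq] at hab
    rcases hab with h | h | h | h
    · exact Or.inl (h.1 ▸ dvd_rfl)
    · exact Or.inr (Or.inl (h.1 ▸ dvd_rfl))
    · exact Or.inr (Or.inr (Or.inl (h.1 ▸ dvd_rfl)))
    · exact Or.inr (Or.inr (Or.inr (h.1 ▸ dvd_rfl)))
  obtain ⟨g, hg⟩ := Cfsg.Agent.S2358.result hm hF a hd B A hB hA hBa hAa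
  rw [hg, ← map_equiv_normalizer_eq, card_map']
  exact hBb

/-- **The row of the small Ree groups.** -/
theorem row_ree (K : Type u) [Group K] [Finite K] [IsSimpleGroup K] (h : Cfsg.Lie.IsoRee K) :
    Cfsg.Agent.H160.PD.Row K := by
  obtain ⟨F, iF, iF', m, hm, hF, ⟨e⟩⟩ := h
  have hs : IsSimpleGroup ↥(twistedG2 F (3 ^ m)) := e.symm.isSimpleGroup
  have hS : Cfsg.Lie.IsoRee ↥(twistedG2 F (3 ^ m)) := ⟨F, iF, iF', m, hm, hF, ⟨MulEquiv.refl _⟩⟩
  have hcard := Cfsg.Agent.S1069.result hF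
  have hF' : Nat.card F = 3 ^ (2 * m + 1) := by rw [Nat.card_eq_fintype_card, hF]
  have hf3 : Fact (Nat.Prime 3) := ⟨Nat.prime_three⟩
  obtain ⟨l, hl, hE, hdv, hl3⟩ := Cfsg.Agent.Lib.Zsigmondy.exists_primitive (a := 3) (n := 6 * (2 * m + 1)) (by norm_num)
    (by omega) (by omega) (by omega)
  have hlle : 6 * (2 * m + 1) ≤ l - 1 := Nat.le_of_dvd (by have := hl.two_le; omega) hdv
  have hldvd : l ∣ (3 ^ (2 * m + 1)) ^ 3 + 1 := by
    have h1 : l ∣ 3 ^ (6 * (2 * m + 1)) - 1 := (hE _).2 dvd_rfl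
    have h2 : 3 ^ (6 * (2 * m + 1)) - 1 = (3 ^ (3 * (2 * m + 1)) - 1) * ((3 ^ (2 * m + 1)) ^ 3 + 1) := by
      have h3 : 3 ^ (6 * (2 * m + 1)) = ((3 ^ (2 * m + 1)) ^ 3) ^ 2 := by rw [← pow_mul, ← pow_mul]; ring_nf
      have h4 : 3 ^ (3 * (2 * m + 1)) = (3 ^ (2 * m + 1)) ^ 3 := by rw [← pow_mul]; ring_nf
      rw [h3, h4]
      exact fac _
    rw [h2] at h1
    rcases hl.dvd_mul.1 h1 with h3 | h3
    · have h4 := (hE _).1 h3
      have := Nat.le_of_dvd (by omega) h4
      omega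
    · exact h3
  have hdc : l ∣ Nat.card ↥(twistedG2 F (3 ^ m)) := by
    rw [hcard]
    exact hldvd.mul_left _
  have : Fact l.Prime := ⟨hl⟩
  have hna : ¬ IsMulCommutative ↥(twistedG2 F (3 ^ m)) := by
    intro hc
    have h1 : (Nat.card ↥(twistedG2 F (3 ^ m))).Prime := by
      let _ : CommGroup ↥(twistedG2 F (3 ^ m)) := { mul_comm := fun a b => hc.is_comm.comm a b }
      exact IsSimpleGroup.prime_card
    have h2 : 3 ∣ Nat.card ↥(twistedG2 F (3 ^ m)) := by
      rw [hcard, mul_assoc]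
      exact ((dvd_pow_self 3 (by omega)).trans (dvd_pow_self _ (by norm_num))).mul_right _
    have h3 := (Nat.prime_dvd_prime_iff_eq Nat.prime_three h1).1 h2
    have h4 := (Nat.prime_dvd_prime_iff_eq hl h1).1 hdc
    omega
  have hZ := Cfsg.Agent.H160.PD.center_eq_bot hna
  have hout : out ↥(twistedG2 F (3 ^ m)) = 2 * m + 1 := S2127.result hm hF
  -- element orders
  obtain ⟨q, hq⟩ : ∃ q, q = 3 ^ (2 * m + 1) := ⟨_, rfl⟩
  obtain ⟨w, hw⟩ : ∃ w, w = 3 ^ (m + 1) := ⟨_, rfl⟩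
  have har : Ar q w := by rw [hq, hw]; exact ar m
  have hOd : ∀ z : ↥(twistedG2 F (3 ^ m)), Od q w (orderOf z) := by
    intro z
    rw [hq, hw]
    exact (Cfsg.Agent.S1159.result hm hF _).1 ⟨z, rfl⟩
  have hno3 : ∀ r : ℕ, r.Prime → r ≠ 2 → r ≠ 3 → ∀ z : ↥(twistedG2 F (3 ^ m)), orderOf z ≠ 3 * r :=
    fun r hr hr2 hr3 z hz => har.no3r hr hr2 hr3 (hz ▸ hOd z)
  -- `l` does not divide `q - 1`, `q + 1`
  have hlq1 : ¬ l ∣ q - 1 := by
    intro h1
    rw [hq] at h1
    have h2 := Nat.le_of_dvd (by omega) ((hE _).1 h1)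
    omega
  have hlq2 : ¬ l ∣ q + 1 := by
    intro h1
    have h2 : l ∣ 3 ^ (2 * (2 * m + 1)) - 1 := by
      have h3 : 3 ^ (2 * (2 * m + 1)) - 1 = (q - 1) * (q + 1) := by
        have h4 : 3 ^ (2 * (2 * m + 1)) = q ^ 2 := by rw [hq, ← pow_mul]; ring_nf
        rw [h4]
        exact fac _
      rw [h3]
      exact h1.mul_left _
    have h4 := Nat.le_of_dvd (by omega) ((hE _).1 h2)
    omega
  have hlT : ∀ {d : ℕ}, l ∣ d → Od q w d → d ∣ q - w + 1 ∨ d ∣ q + w + 1 := by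
    intro d hd hO
    rcases hO with h | h | h | h | h | h
    · have := Nat.le_of_dvd (by norm_num) (hd.trans h)
      omega
    · have := Nat.le_of_dvd (by norm_num) (hd.trans h)
      omega
    · exact absurd (hd.trans h) hlq1
    · exfalso
      apply hlq2
      have h4 : (q + 1) / 2 ∣ q + 1 := ⟨2, by have := har.hq2; omega⟩
      exact (hd.trans h).trans h4
    · exact Or.inl h
    · exact Or.inr h
  -- the orders
  have hv3 : v 3 ↥(twistedG2 F (3 ^ m)) = 3 * (2 * m + 1) := by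
    show (Nat.card ↥(twistedG2 F (3 ^ m))).factorization 3 = _
    have h1 : ¬ 3 ∣ (q - 1) * (q ^ 3 + 1) := by
      rw [Nat.Prime.dvd_mul Nat.prime_three]
      have h2 := har.h3q
      have h3 : 3 ∣ q ^ 3 := h2.trans (dvd_pow_self _ (by norm_num))
      have h4 := har.hq2
      omega
    rw [hcard, mul_assoc, ← hq, Nat.factorization_mul (by rw [hq]; positivity) (by
      intro h2
      rw [h2] at h1
      exact h1 (dvd_zero _)), Finsupp.add_apply, Nat.factorization_eq_zero_of_not_dvd h1, add_zero, hq, ← pow_mul,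
      Nat.Prime.factorization_pow Nat.prime_three, Finsupp.single_eq_same, mul_comm]
  have hcen : ∀ {k : ↥(twistedG2 F (3 ^ m))}, (orderOf k).Prime → orderOf k ≠ 3 →
      v 3 (centralizer {k}) ≤ 2 * (2 * m + 1) := fun hk hk3 => ree_cent hm hF hv3 hk hk3
  have hcen0 : ∀ {k : ↥(twistedG2 F (3 ^ m))}, (orderOf k).Prime → orderOf k ≠ 2 → orderOf k ≠ 3 →
      v 3 (centralizer {k}) = 0 := by
    intro k hk hk2 hk3
    refine v_eq_zero_of_order Nat.prime_three fun y hy hy3 => hno3 _ hk hk2 hk3 (y * k) ?_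
    exact orderOf_mul_prime hk hy3 rfl (fun h => hk3 ((Nat.prime_dvd_prime_iff_eq hk Nat.prime_three).1 h))
      (mem_centralizer_singleton_iff.1 hy)
  have hinn : ∀ x : ↥(twistedG2 F (3 ^ m)), orderOf x = l → ∀ a : MulAut ↥(twistedG2 F (3 ^ m)), a x = x →
      ∃ s, a = MulAut.conj s := by
    intro x hx a ha
    refine inner_of_fixes (stab_g2 _) ?_ ((Units.coeHom _).comp (Subgroup.subtype _)) (fun σ g => rfl) Nat.prime_three
      hF' ⟨m, rfl⟩ hl (by omega) hE ?_ hx ?_ a ha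
    · intro ψ
      obtain ⟨g, σ, h⟩ := Cfsg.Agent.H71.FldAut.ree_aut hm hF ψ
      exact ⟨g, σ, h⟩
    · have : Fintype.card chevG2.Idx = 14 := rfl
      omega
    · intro h
      have h1 : x = 1 := coe_rho_injective _ (by rw [h, map_one])
      rw [h1, orderOf_one] at hx
      exact hl.one_lt.ne hx
  -- elements commuting with an element of order `l`
  have hcomm : ∀ x : ↥(twistedG2 F (3 ^ m)), orderOf x = l → ∀ s : ↥(twistedG2 F (3 ^ m)), (orderOf s).Prime →
      orderOf s ≠ 2 → x * s = s * x → orderOf s ≠ 3 ∧ v 2 (centralizer {s}) = 0 := by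
    intro x hx s hs hs2 hxs
    have hT : orderOf s ∣ q - w + 1 ∨ orderOf s ∣ q + w + 1 := by
      by_cases hsl : orderOf s = l
      · rw [hsl]
        exact hlT dvd_rfl (hx ▸ hOd x)
      · have h1 := orderOf_mul_prime hs hx rfl (fun h => hsl ((Nat.prime_dvd_prime_iff_eq hs hl).1 h)) hxs
        have h2 := hlT (d := l * orderOf s) (dvd_mul_right _ _) (h1 ▸ hOd (x * s))
        exact h2.imp (fun h => (dvd_mul_left _ _).trans h) (fun h => (dvd_mul_left _ _).trans h)
    have hs3 : orderOf s ≠ 3 := by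
      intro h3
      have h4 := har.not_three (d := 3) dvd_rfl
      rw [h3] at hT
      rcases hT with h | h
      · exact h4.2.2.1 h
      · exact h4.2.2.2 h
    refine ⟨hs3, v_eq_zero_of_order Nat.prime_two fun y hy hy2 => har.no2t hs hs2 hT ?_⟩
    have h1 := orderOf_mul_prime (x := y) (y := s) hs hy2 rfl
      (fun h => hs2 ((Nat.prime_dvd_prime_iff_eq hs Nat.prime_two).1 h)) (mem_centralizer_singleton_iff.1 hy)
    exact h1 ▸ hOd (y * s)
  have hfix : ∀ {b : MulAut ↥(twistedG2 F (3 ^ m))}, (orderOf b).Prime → orderOf b ≠ 2 →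
      ∀ x : ↥(twistedG2 F (3 ^ m)), orderOf x = l → b x = x → v 3 (Fx b) = 0 ∧ v 2 (Fx b) = 0 := by
    intro b hb hb2 x hx hbx
    obtain ⟨s, rfl⟩ := hinn x hx b hbx
    rw [orderOf_conj' hZ] at hb hb2
    rw [MulAut.conj_apply, mul_inv_eq_iff_eq_mul] at hbx
    obtain ⟨h1, h2⟩ := hcomm x hx s hb hb2 hbx.symm
    rw [Fx_conj]
    exact ⟨hcen0 hb hb2 h1, h2⟩
  have hv2 : 0 < v 2 ↥(twistedG2 F (3 ^ m)) := by
    rw [v_pos Nat.prime_two, hcard, ← hq]
    have h1 : 2 ∣ q - 1 := by have := har.hq2; omega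
    exact (h1.mul_left _).mul_right _
  have hfac := two_mul_fac_lt (f := 2 * m + 1) (by omega)
  have hfac2 : (2 * m + 1).factorization 2 = 0 := Nat.factorization_eq_zero_of_not_dvd (by omega)
  refine (One.row (S := ↥(twistedG2 F (3 ^ m))) (p := 3) (r := l) (c := 0) (e := 0) (m := 1) hZ
    ⟨Nat.prime_three, good_of_lt hl (by omega) hout (by omega) (by omega) hdc, ?_, ?_, ?_, ?_, ?_, ?_, ?_⟩).congr e
  · intro x hx
    exact (hcen0 (hx ▸ hl) (by omega) (by omega)).le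
  · intro b hb hb2 _ x hx hbx
    exact (hfix hb hb2 x hx hbx).1.le
  · intro b hb _ hb3
    have hlt := v_Fx_lt Nat.prime_three (by unfold Cfsg.IsLieTypeChar; tauto) hb hb3
    obtain ⟨U, h, n, D⟩ := Cfsg.Agent.ChevalleyStructure.Ree.Data.exists_data hF
    have h1 := two_mul_v_le (p := 3) (c := 2 * (2 * m + 1)) (e := (3 ^ (2 * m + 1) - 1) / 2) hZ
      (Cfsg.Agent.S1155.result hm hF) (exists_d D hF hv3 hno3) (by
        have h2 : 3 ^ 3 ≤ 3 ^ (2 * m + 1) := Nat.pow_le_pow_right (by norm_num) (by omega)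
        omega) (fun k hk hk3 => hcen hk hk3) (fun x hx hd => by
        obtain ⟨k, rfl⟩ := dvd_of_dvd_three hd (by omega)
        rw [hv3] at hx ⊢
        have h2 : k < 3 := by
          rw [mul_comm 3] at hx
          exact lt_of_mul_lt_mul_left hx (Nat.zero_le _)
        have h3 : (2 * m + 1) * k ≤ (2 * m + 1) * 2 := Nat.mul_le_mul_left _ (by omega)
        omega) hb hb3 hlt
    rw [hout, hv3]
    rw [hv3] at h1
    omega
  · intro _ H hH hlH
    have hsol : Group.IsSolvable ↥H := Cfsg.Agent.S0205.result hH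
    obtain ⟨A, hHA, hA⟩ := Cfsg.Agent.S2361.result hm hF H hsol
    obtain ⟨x, hxH, hx⟩ := Cfg.exists_mem hl hlH
    rcases hA with ⟨P, rfl⟩ | ⟨P, rfl⟩ | ⟨hAc, hA⟩
    · exfalso
      have h1 := (Cfsg.Agent.S1157.result hm hF P).2
      have h2 := hlH.trans (card_dvd_of_le hHA)
      rw [h1] at h2
      have h3 : l ∣ 2 ^ 3 * (3 * 7) := h2
      rcases hl.dvd_mul.1 h3 with h4 | h4
      · have := Nat.le_of_dvd (by norm_num) (hl.dvd_of_dvd_pow h4)
        omega
      · rcases hl.dvd_mul.1 h4 with h5 | h5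
        · have := Nat.le_of_dvd (by norm_num) h5
          omega
        · have := Nat.le_of_dvd (by norm_num) h5
          omega
    · exfalso
      have hNN : NoNorm 3 x := by
        refine noNorm_of_order hl hx ?_ ?_
        · intro y hy hc
          refine hno3 l hl (by omega) (by omega) (y * x) ?_
          exact orderOf_mul_prime hl hy hx (fun h => by
            have := Nat.le_of_dvd (by norm_num) h
            omega) hc.symm
        · intro k hk hdk hlk
          have h1 := (Nat.prime_three.pow_dvd_iff_le_factorization Nat.card_pos.ne').1 hdk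
          have h2 : k ≤ 3 * (2 * m + 1) := h1.trans hv3.le
          have h4 := Nat.le_of_dvd (Nat.pos_of_ne_zero hk) ((hE k).1 hlk)
          omega
      have h1 := hNN _ P.isPGroup' (hHA hxH)
      have h2 := P.card_eq_multiplicity
      rw [h1, card_bot] at h2
      have h3 : (Nat.card ↥(twistedG2 F (3 ^ m))).factorization 3 = 3 * (2 * m + 1) := hv3
      rw [h3] at h2
      have h4 := Nat.one_lt_pow (show 3 * (2 * m + 1) ≠ 0 by omega) (by norm_num : 1 < 3)
      omega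
    · have hle : v 3 H ≤ v 3 (normalizer (A : Set ↥(twistedG2 F (3 ^ m)))) := v_mono hHA 3
      have hlN := hlH.trans (card_dvd_of_le hHA)
      refine hle.trans ?_
      have key : ∀ a, ¬ 3 ∣ a → a ≠ 0 → Nat.card ↥(normalizer (A : Set ↥(twistedG2 F (3 ^ m)))) = 6 * a →
          v 3 (normalizer (A : Set ↥(twistedG2 F (3 ^ m)))) ≤ 1 := by
        intro a ha ha0 hc
        show (Nat.card ↥(normalizer (A : Set ↥(twistedG2 F (3 ^ m))))).factorization 3 ≤ 1
        by_contra hlt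
        have h1 : 3 ^ 2 ∣ 6 * a := by
          rw [← hc]
          exact (Nat.prime_three.pow_dvd_iff_le_factorization Nat.card_pos.ne').2 (by omega)
        omega
      have h3 := har.not_three (d := 3) dvd_rfl
      rcases hA with hA | hA | hA | hA
      · exfalso
        rw [ree_norm hm hF hAc (b := 2 * (3 ^ (2 * m + 1) - 1)) (by simp) hA, ← hq] at hlN
        rcases hl.dvd_mul.1 hlN with h4 | h4
        · have := Nat.le_of_dvd (by norm_num) h4
          omega
        · exact hlq1 h4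
      · exfalso
        rw [ree_norm hm hF hAc (b := 6 * (3 ^ (2 * m + 1) + 1)) (by simp) hA, ← hq] at hlN
        rcases hl.dvd_mul.1 hlN with h4 | h4
        · have := Nat.le_of_dvd (by norm_num) h4
          omega
        · exact hlq2 h4
      · refine key _ h3.2.2.1 (by omega) ?_
        rw [hq, hw]
        exact ree_norm hm hF hAc (by simp) hA
      · refine key _ h3.2.2.2 (by omega) ?_
        rw [hq, hw]
        exact ree_norm hm hF hAc (by simp) hA
  · intro _ s hs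
    have h1 := hcen (k := s) (by rw [hs]; exact Nat.prime_two) (by rw [hs]; norm_num)
    rw [hout, hv3]
    have h2 : max 1 0 = 1 := rfl
    omega
  · intro _ x hx
    have h1 := (hcomm x hx x (hx ▸ hl) (by omega) rfl).2
    rw [h1, hout, hfac2]
    exact hv2
  · intro _ b hb hb2 x hx hbx
    rw [(hfix hb hb2 x hx hbx).2, hout, hfac2]
    exact hv2

end Cfsg.Agent.H874.PD
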