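import Cfsg.Agent.H874.PD.Base
import Cfsg.Agent.Lib.Cores
import Cfsg.Prelude.Def_CaseTheorems

/-!
# Rows of S4246: groups of characteristic two type (helper874)
-/

set_option autoImplicit false

namespace Cfsg.Agent.H874.PD

open Subgroup Cfsg Cfsg.Agent.H160.PD Cfsg.Agent.Lib.Cores

variable {S : Type*} [Group S] [Finite S]

omit [Finite S] in
/-- an element of odd order centralising `R` and normalising `T`, `|T : R| = 2`, centralises `T` -/
theorem comm_of_index_two {R T : Subgroup S} (hp : IsPGroup 2 ↥R) (hi : R.relIndex T = 2) {s : S}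
    (hs : Odd (orderOf s)) (hR : ∀ r ∈ R, s * r = r * s) {o : S} (ho : o ∈ T) (hso : s * o * s⁻¹ ∈ T) :
    s * o = o * s := by
  by_cases hoR : o ∈ R
  · exact hR o hoR
  have h1 : s * o * s⁻¹ ∉ R := by
    intro h
    have h2 := hR _ h
    apply hoR
    have h3 : s * o * s⁻¹ = o := by
      have h4 : s * (s * o * s⁻¹) = s * o := by rw [h2]; group
      exact mul_left_cancel h4
    rwa [← h3]
  have h2 : o⁻¹ * (s * o * s⁻¹) ∈ R := by
    have h3 := Subgroup.mul_mem_iff_of_index_two (H := R.subgroupOf T) hi (a := ⟨o, ho⟩⁻¹) (b := ⟨s * o * s⁻¹, hso⟩)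
    simp only [mem_subgroupOf, coe_mul, coe_inv, inv_mem_iff] at h3
    exact h3.2 (iff_of_false hoR h1)
  obtain ⟨r, hr, hor⟩ : ∃ r ∈ R, s * o = o * r * s := ⟨_, h2, by group⟩
  have h3 : ∀ n : ℕ, s ^ n * o = o * r ^ n * s ^ n := by
    intro n
    induction n with
    | zero => simp
    | succ n ih =>
      have hc : s ^ n * r = r * s ^ n := ((show Commute s r from hR r hr).pow_left n).eq
      calc s ^ (n + 1) * o = s ^ n * (s * o) := by rw [pow_succ]; group
        _ = s ^ n * o * r * s := by rw [hor]; group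
        _ = o * r ^ n * (s ^ n * r) * s := by rw [ih]; group
        _ = o * r ^ n * r * s ^ n * s := by rw [hc]; group
        _ = o * r ^ (n + 1) * s ^ (n + 1) := by rw [pow_succ, pow_succ]; group
  have h4 := h3 (orderOf s)
  rw [pow_orderOf_eq_one, one_mul, mul_one] at h4
  have h5 : r ^ orderOf s = 1 := by
    have h6 : o * r ^ orderOf s = o * 1 := by rw [mul_one]; exact h4.symm
    exact mul_left_cancel h6
  obtain ⟨k, hk⟩ := hp ⟨r, hr⟩
  have hk' : r ^ 2 ^ k = 1 := by simpa using congrArg Subtype.val hk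
  have h7 : orderOf r ∣ Nat.gcd (orderOf s) (2 ^ k) :=
    Nat.dvd_gcd (orderOf_dvd_of_pow_eq_one h5) (orderOf_dvd_of_pow_eq_one hk')
  have h8 : Nat.gcd (orderOf s) (2 ^ k) = 1 := Nat.Coprime.pow_right k (Nat.coprime_two_right.2 hs)
  rw [h8, Nat.dvd_one, orderOf_eq_one_iff] at h7
  rw [h7, mul_one] at hor
  exact hor

/-- **Characteristic two type**: an element of odd prime order centralises no subgroup of index at most two of a Sylow
`2`-subgroup. -/
theorem v_centralizer_add_one_lt (h : IsCharacteristicTwoType S) (h2 : 2 ≤ v 2 S) {s : S} (hs : (orderOf s).Prime)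
    (hs2 : orderOf s ≠ 2) : v 2 (centralizer {s}) + 1 < v 2 S := by
  have hp2 : Fact (Nat.Prime 2) := ⟨Nat.prime_two⟩
  by_contra hlt
  rw [not_lt] at hlt
  let R0 : Sylow 2 ↥(centralizer ({s} : Set S)) := default
  obtain ⟨R, hR⟩ : ∃ R : Subgroup S, R = (R0 : Subgroup ↥(centralizer ({s} : Set S))).map (centralizer ({s} : Set S)).subtype :=
    ⟨_, rfl⟩
  have hRc : Nat.card ↥R = 2 ^ v 2 (centralizer ({s} : Set S)) := by
    rw [hR, ← Nat.card_congr ((R0 : Subgroup ↥(centralizer ({s} : Set S))).equivMapOfInjective _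
      (subtype_injective _)).toEquiv, R0.card_eq_multiplicity]
  have hRs : ∀ r ∈ R, s * r = r * s := by
    intro r hr
    rw [hR] at hr
    obtain ⟨y, -, rfl⟩ := hr
    exact (mem_centralizer_singleton_iff.1 y.2).symm
  have hRp : IsPGroup 2 ↥R := IsPGroup.of_card hRc
  have hR1 : R ≠ ⊥ := by
    intro h1
    rw [h1, card_bot] at hRc
    have h3 : v 2 (centralizer ({s} : Set S)) ≠ 0 := by omega
    have h4 := Nat.one_lt_pow h3 (by norm_num : 1 < 2)
    omega
  obtain ⟨T, hT⟩ := hRp.exists_le_sylow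
  have hTc : Nat.card ↥(T : Subgroup S) = 2 ^ v 2 S := T.card_eq_multiplicity
  have hi : R.relIndex (T : Subgroup S) ≤ 2 := by
    have h1 := card_mul_index (R.subgroupOf (T : Subgroup S))
    rw [Nat.card_congr (subgroupOfEquivOfLe hT).toEquiv, hRc, hTc] at h1
    have h3 : 2 ^ v 2 S ≤ 2 ^ v 2 (centralizer ({s} : Set S)) * 2 := by
      rw [← pow_succ]
      exact Nat.pow_le_pow_right (by norm_num) hlt
    rw [← h1] at h3
    exact Nat.le_of_mul_le_mul_left h3 (by positivity)
  have hi0 : R.relIndex (T : Subgroup S) ≠ 0 := (index_ne_zero_of_finite (H := R.subgroupOf (T : Subgroup S)))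
  have hnT : (T : Subgroup S) ≤ normalizer (R : Set S) := by
    by_cases h1 : R.relIndex (T : Subgroup S) = 1
    · exact (relIndex_eq_one.1 h1).trans le_normalizer
    · have h2 : R.relIndex (T : Subgroup S) = 2 := by omega
      have h3 : (R.subgroupOf (T : Subgroup S)).Normal := normal_of_index_eq_two h2
      exact (normal_subgroupOf_iff_le_normalizer hT).1 h3
  have hodd : Odd (orderOf s) := hs.odd_of_ne_two hs2
  have hsN : s ∈ normalizer (R : Set S) := by
    apply centralizer_le_normalizer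
    rw [mem_centralizer_iff]
    intro r hr
    exact (hRs r hr).symm
  -- the largest normal `2`-subgroup of the normaliser
  have hchar := h.2 R hRp hR1
  have hOT : ∀ o ∈ pCore 2 ↥(normalizer (R : Set S)), (o : S) ∈ (T : Subgroup S) := by
    intro o ho
    have h1 : Nat.card ↥((T : Subgroup S).subgroupOf (normalizer (R : Set S))) =
        2 ^ (Nat.card ↥(normalizer (R : Set S))).factorization 2 := by
      rw [Nat.card_congr (subgroupOfEquivOfLe hnT).toEquiv, hTc]
      congr 1
      apply le_antisymm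
      · have h2 : 2 ^ v 2 S ∣ Nat.card ↥(normalizer (R : Set S)) := by
          rw [← hTc]
          exact card_dvd_of_le hnT
        exact (Nat.prime_two.pow_dvd_iff_le_factorization Nat.card_pos.ne').1 h2
      · exact (Nat.factorization_le_iff_dvd Nat.card_pos.ne' Nat.card_pos.ne').2 (card_subgroup_dvd_card _) 2
    have h2 := pCore_le_sylow (Sylow.ofCard _ h1) ho
    exact mem_subgroupOf.1 h2
  have hsO : (⟨s, hsN⟩ : ↥(normalizer (R : Set S))) ∈ centralizer
      ((pCore 2 ↥(normalizer (R : Set S)) : Subgroup ↥(normalizer (R : Set S))) : Set ↥(normalizer (R : Set S))) := by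
    rw [mem_centralizer_iff]
    intro o ho
    apply Subtype.ext
    show (o : S) * s = s * (o : S)
    have h3 : (⟨s, hsN⟩ * o * ⟨s, hsN⟩⁻¹ : ↥(normalizer (R : Set S))) ∈ pCore 2 ↥(normalizer (R : Set S)) :=
      (Cfsg.Agent.Lib.Cores.pCore_normal (G := ↥(normalizer (R : Set S))) 2).conj_mem o ho ⟨s, hsN⟩
    have h4 : s * (o : S) * s⁻¹ ∈ (T : Subgroup S) := hOT _ h3
    by_cases h1 : R.relIndex (T : Subgroup S) = 1
    · exact (hRs _ (relIndex_eq_one.1 h1 (hOT o ho))).symm
    · exact (comm_of_index_two hRp (by omega) hodd hRs (hOT o ho) h4).symm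
  have h5 := hchar hsO
  obtain ⟨k, hk⟩ := (IsPGroup.iff_orderOf.1 (pCore_isPGroup (G := ↥(normalizer (R : Set S))) 2)) ⟨_, h5⟩
  rw [Subgroup.orderOf_mk, Subgroup.orderOf_mk] at hk
  rw [hk] at hodd
  rcases Nat.eq_zero_or_pos k with h6 | h6
  · subst h6
    rw [hk] at hs
    exact hs.one_lt.ne rfl
  · exact Nat.not_odd_iff_even.2 ((Nat.even_pow.2 ⟨even_two, h6.ne'⟩)) hodd

end Cfsg.Agent.H874.PD
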