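import Cfsg.Agent.H874.PD.TwoB
import Cfsg.Agent.H874.PD.CharTwo
import Cfsg.Agent.S1074
import Cfsg.Agent.TitsK.RankRK
import Cfsg.Agent.EvenType.ChevTwoTits

/-!
# Rows of S4246: the Tits group (helper874)
-/

set_option autoImplicit false

namespace Cfsg.Agent.H874.PD

open Subgroup Cfsg Cfsg.Lie Cfsg.Agent.H160.PD Cfsg.Agent.H798.RowTw

universe u

/-- **The criterion with an isolated prime**, `|Out| ≤ 2`, characteristic two type. -/
theorem row_charTwo {S : Type*} [Group S] [Finite S] (hZ : center S = ⊥) (hc : IsCharacteristicTwoType S)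
    (h2 : 2 ≤ v 2 S) (hout : out S ≤ 2) {l : ℕ} (hl : l.Prime) (hl2 : l ≠ 2) (hd : l ∣ Nat.card S)
    (hC : ∀ x : S, orderOf x = l → ∀ y : S, (orderOf y).Prime → orderOf y ≠ 2 → x * y = y * x →
      ∀ z : S, orderOf z = 2 → y * z ≠ z * y) : Row S := by
  have hout0 : 0 < out S := Nat.pos_of_ne_zero out_ne_zero
  have hl3 : 3 ≤ l := by have := hl.two_le; omega
  have hg : Good S l := ⟨hl, hl2, by
    rw [Nat.factorization_eq_zero_of_lt (by omega)]
    exact (v_pos hl).2 hd⟩
  have key : ∀ x : S, orderOf x = l → ∀ y : S, (orderOf y).Prime → orderOf y ≠ 2 → x * y = y * x →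
      v 2 (centralizer {y}) = 0 := by
    intro x hx y hy hy2 hxy
    refine v_eq_zero_of_order Nat.prime_two fun z hz hz2 => hC x hx y hy hy2 hxy z hz2 ?_
    exact (mem_centralizer_singleton_iff.1 hz).symm
  -- automorphisms of odd prime order are inner
  have hin : ∀ b : MulAut S, (orderOf b).Prime → orderOf b ≠ 2 → ∃ s : S, b = MulAut.conj s := by
    intro b hb hb2
    have h1 := hb.odd_of_ne_two hb2
    have h3 : b ^ 2 ∈ (MulAut.conj : S →* MulAut S).range := by
      have hN : (MulAut.conj : S →* MulAut S).range.Normal := conj_range_normal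
      have h4 : out S = 1 ∨ out S = 2 := by omega
      rcases h4 with h4 | h4
      · have h5 : (MulAut.conj : S →* MulAut S).range = ⊤ := index_eq_one.1 h4
        rw [h5]
        trivial
      · exact sq_mem_of_index_two h4 b
    have h4 : b ∈ (MulAut.conj : S →* MulAut S).range := by
      obtain ⟨k, hk⟩ := h1
      have h5 : b * (b ^ 2) ^ k = 1 := by
        rw [← pow_mul, ← pow_succ', ← hk, pow_orderOf_eq_one]
      have h6 : b = ((b ^ 2) ^ k)⁻¹ := eq_inv_of_mul_eq_one_left h5
      rw [h6]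
      exact inv_mem (pow_mem h3 k)
    obtain ⟨s, hs⟩ := h4
    exact ⟨s, hs.symm⟩
  refine row_iso hZ (c := 0) hg (fun x hx => ?_) (fun b hb hb2 x hx hbx => ?_) (fun b hb hb2 => ?_)
  · exact (key x hx x (hx ▸ hl) (hx ▸ hl2) rfl).le
  · obtain ⟨s, rfl⟩ := hin b hb hb2
    rw [orderOf_conj' hZ] at hb hb2
    rw [Fx_conj]
    refine (key x hx s hb hb2 ?_).le
    rw [MulAut.conj_apply, mul_inv_eq_iff_eq_mul] at hbx
    exact hbx.symm
  · obtain ⟨s, rfl⟩ := hin b hb hb2
    rw [orderOf_conj' hZ] at hb hb2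
    rw [Fx_conj]
    have h3 := v_centralizer_add_one_lt hc h2 hb hb2
    have h4 : (out S).factorization 2 ≤ 1 := by
      have h5 : out S = 1 ∨ out S = 2 := by omega
      rcases h5 with h5 | h5 <;> rw [h5]
      · simp
      · exact (Nat.Prime.factorization_self Nat.prime_two).le
    omega

/-- The row of a group with an embedding into `F₄(2)` -/
theorem row_tits_aux {K : Type u} [Group K] [Finite K] [IsSimpleGroup K] (hna : ¬ IsMulCommutative K)
    (hcard : Nat.card K = 2 ^ 11 * 3 ^ 3 * 5 ^ 2 * 13) (hc : IsCharacteristicTwoType K)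
    (hidx : ∀ (N : Subgroup (MulAut K)) [N.Normal], Nonempty (↥N ≃* K) → centralizer (N : Set (MulAut K)) = ⊥ →
      N.index ≤ 2) {G : Type*} [Group G] [Finite G] {T : Subgroup G} (hT : IsCyclic ↥T) (hT13 : Nat.card ↥T = 13)
    (hTi : ∀ r : ℕ, r.Prime → ∀ y ∈ T, orderOf y = r → centralizer {y} ≤ T) (inc : K →* G)
    (hinc : Function.Injective inc) : Cfsg.Agent.H160.PD.Row K := by
  have hZ := Cfsg.Agent.H160.PD.center_eq_bot hna
  refine row_charTwo (S := K) hZ hc ?_ ?_ (l := 13) (by norm_num) (by norm_num) (by rw [hcard]; norm_num) ?_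
  · apply (Nat.prime_two.pow_dvd_iff_le_factorization Nat.card_pos.ne').1
    rw [hcard]
    norm_num
  · have hN : (MulAut.conj : K →* MulAut K).range.Normal := conj_range_normal
    refine hidx (MulAut.conj : K →* MulAut K).range ⟨(MonoidHom.ofInjective (conj_injective hZ)).symm⟩ ?_
    rw [eq_bot_iff]
    intro b hb
    rw [mem_bot]
    ext s
    have h1 := mem_centralizer_iff.1 hb (MulAut.conj s) ⟨s, rfl⟩
    rw [fix_of_comm hZ h1.symm]
    rfl
  · intro x hx y hy hy2 hxy z hz hyz
    refine isolated_odd hT hTi (by rw [hT13]; norm_num) (l := 13) (by norm_num) (by rw [hT13]) (x := inc x) (y := inc y)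
      (z := inc z) ?_ ?_ ?_ ?_ ?_
    · rw [orderOf_injective inc hinc, hx]
    · rwa [orderOf_injective inc hinc]
    · rw [← map_mul, ← map_mul, hxy]
    · rw [orderOf_injective inc hinc, hz]
    · rw [← map_mul, ← map_mul, hyz]

theorem exists_inc : ∃ inc : TitsGroup →* ↥(chevF4.group (ZMod 2)), Function.Injective inc :=
  ⟨(Subgroup.inclusion (twF4_le_group (K := ZMod 2) 1)).comp (Subgroup.subtype _),
    (Subgroup.inclusion_injective (twF4_le_group (K := ZMod 2) 1)).comp (Subgroup.subtype_injective _)⟩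

theorem not_comm {K : Type u} [Group K] (h : Cfsg.Lie.IsoTits K) : ¬ IsMulCommutative K := by
  obtain ⟨e⟩ := h
  intro hc
  exact Cfsg.Agent.S1074.result.2.2.1 ⟨⟨fun a b => e.symm.injective (by
    rw [map_mul, map_mul]
    exact hc.is_comm.comm _ _)⟩⟩

/-- **The row of the Tits group.** -/
theorem row_tits (K : Type u) [Group K] [Finite K] [IsSimpleGroup K] (h : Cfsg.Lie.IsoTits K) :
    Cfsg.Agent.H160.PD.Row K := by
  obtain ⟨inc, hinc⟩ := exists_inc
  obtain ⟨e⟩ := id h
  obtain ⟨T, hT, hTc, hTi⟩ := f4_torus (F := ZMod 2) 2 (ZMod.card 2)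
  refine row_tits_aux (not_comm h) ?_ (Cfsg.Agent.EvenType.ChevTwoTits.charTwo h)
    (fun N hN h1 h2 => Cfsg.Agent.TitsK.index_le h N h1 h2) hT (by omega) hTi (inc.comp e.toMonoidHom)
    (hinc.comp e.injective)
  exact (Nat.card_congr e.toEquiv).trans Cfsg.Agent.S1074.result.2.2.2

end Cfsg.Agent.H874.PD
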