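import Cfsg.Agent.H874.PD.Base
import Cfsg.Agent.H798.RowTwD
import Cfsg.Agent.SignalizersComponents.BalEndSz

/-!
# Rows of S4246: the Suzuki groups and the large Ree groups (helper874)
-/

set_option autoImplicit false

namespace Cfsg.Agent.H874.PD

open Subgroup Cfsg Cfsg.Lie Cfsg.Agent.H160.PD Cfsg.Agent.H967.CopMat Cfsg.Agent.H967.CopSz
  Cfsg.Agent.H798.RowTw

universe u

theorem good_of_lt {S : Type*} [Group S] [Finite S] {l f : ℕ} (hl : l.Prime) (hl2 : l ≠ 2) (ho : out S = f) (hf : 0 < f)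
    (hfl : f < l) (hd : l ∣ Nat.card S) : Good S l where
  prime := hl
  odd := hl2
  lt := by
    rw [ho, Nat.factorization_eq_zero_of_lt hfl]
    exact (v_pos hl).2 hd

/-- **The row of the Suzuki groups.** -/
theorem row_sz (K : Type u) [Group K] [Finite K] [IsSimpleGroup K] (h : Cfsg.Lie.IsoSuzuki K) :
    Cfsg.Agent.H160.PD.Row K := by
  have h0 := h
  obtain ⟨F, iF, iF', m, hm, hF, ⟨e⟩⟩ := h
  have hs : IsSimpleGroup ↥(Cfsg.Lie.Sz F (2 ^ (m + 1))) := e.symm.isSimpleGroup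
  have hcard := (Cfsg.Agent.S1163.result hm hF).1
  have hF' : Nat.card F = 2 ^ (2 * m + 1) := by rw [Nat.card_eq_fintype_card, hF]
  have hsz : Cfsg.Lie.IsoSuzuki ↥(Cfsg.Lie.Sz F (2 ^ (m + 1))) := ⟨F, iF, iF', m, hm, hF, ⟨MulEquiv.refl _⟩⟩
  obtain ⟨l, hl, hE, hdv, hl2⟩ := Cfsg.Agent.Lib.Zsigmondy.exists_primitive (a := 2) (n := 4 * (2 * m + 1)) le_rfl
    (by omega) (by omega) (by omega)
  have hlle : 4 * (2 * m + 1) ≤ l - 1 := Nat.le_of_dvd (by have := hl.two_le; omega) hdv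
  have hldvd : l ∣ (2 ^ (2 * m + 1)) ^ 2 + 1 := by
    have h1 : l ∣ 2 ^ (4 * (2 * m + 1)) - 1 := (hE _).2 dvd_rfl
    have h2 : 2 ^ (4 * (2 * m + 1)) - 1 = (2 ^ (2 * (2 * m + 1)) - 1) * ((2 ^ (2 * m + 1)) ^ 2 + 1) := by
      have h3 : 2 ^ (4 * (2 * m + 1)) = ((2 ^ (2 * m + 1)) ^ 2) ^ 2 := by rw [← pow_mul, ← pow_mul]; ring_nf
      have h4 : 2 ^ (2 * (2 * m + 1)) = (2 ^ (2 * m + 1)) ^ 2 := by rw [← pow_mul]; ring_nf
      rw [h3, h4]
      exact fac _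
    rw [h2] at h1
    rcases hl.dvd_mul.1 h1 with h3 | h3
    · have h4 := (hE _).1 h3
      have := Nat.le_of_dvd (by omega) h4
      omega
    · exact h3
  have hdc : l ∣ Nat.card ↥(Cfsg.Lie.Sz F (2 ^ (m + 1))) := by
    rw [hcard]
    exact hldvd.mul_left _
  have : Fact l.Prime := ⟨hl⟩
  have hna : ¬ IsMulCommutative ↥(Cfsg.Lie.Sz F (2 ^ (m + 1))) := by
    intro hc
    have h1 : (Nat.card ↥(Cfsg.Lie.Sz F (2 ^ (m + 1)))).Prime := by
      let _ : CommGroup ↥(Cfsg.Lie.Sz F (2 ^ (m + 1))) := { mul_comm := fun a b => hc.is_comm.comm a b }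
      exact IsSimpleGroup.prime_card
    have h2 : 2 ∣ Nat.card ↥(Cfsg.Lie.Sz F (2 ^ (m + 1))) := by
      rw [hcard, mul_assoc]
      exact ((dvd_pow_self 2 (by omega)).trans (dvd_pow_self _ two_ne_zero)).mul_right _
    have h3 := (Nat.prime_dvd_prime_iff_eq Nat.prime_two h1).1 h2
    have h4 := (Nat.prime_dvd_prime_iff_eq hl h1).1 hdc
    omega
  have hE' : ∀ k, l ∣ 2 ^ k - 1 ↔ 4 * (2 * m + 1) ∣ k := hE
  have hout : out ↥(Cfsg.Lie.Sz F (2 ^ (m + 1))) = 2 * m + 1 := S2126.result hm hF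
  refine (row_two (S := ↥(Cfsg.Lie.Sz F (2 ^ (m + 1)))) hna (by unfold Cfsg.IsLieTypeChar; tauto) (by rw [hout]; omega)
    (good_of_lt hl (by omega) hout (by omega) (by omega) hdc) ?_ ?_).congr e
  · intro x hx a ha
    refine inner_of_fixes (stab_sz hF) ?_ ((Units.coeHom _).comp (Subgroup.subtype _)) (fun σ g => rfl) Nat.prime_two
      hF' ⟨m, rfl⟩ hl (by omega) hE' (by rw [Fintype.card_fin]; norm_num) hx ?_ a ha
    · intro ψ
      obtain ⟨g, σ, h⟩ := Cfsg.Agent.H70.SzAutThm.exists_conj_field hm hF ψ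
      exact ⟨g, σ, h⟩
    · intro h
      have h1 : x = 1 := coe_rho_injective _ (by rw [h, map_one])
      rw [h1, orderOf_one] at hx
      exact hl.one_lt.ne hx
  · intro x hx y hy hy2 hxy z hz hyz
    have h1 := SignalizersComponents.BalEndSz.isPGroup_centralizer_suzuki hsz hz
    have h2 : y ∈ centralizer ({z} : Set ↥(Cfsg.Lie.Sz F (2 ^ (m + 1)))) := mem_centralizer_singleton_iff.2 hyz
    obtain ⟨k, hk⟩ := (IsPGroup.iff_orderOf.1 h1) ⟨y, h2⟩
    rw [Subgroup.orderOf_mk] at hk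
    rw [hk] at hy hy2
    have h3 := (Nat.prime_dvd_prime_iff_eq Nat.prime_two hy)
    rcases Nat.eq_zero_or_pos k with h4 | h4
    · subst h4
      exact hy.one_lt.ne rfl
    · exact hy2 (h3.1 (dvd_pow_self _ h4.ne')).symm

end Cfsg.Agent.H874.PD
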