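import Cfsg.Agent.H874.PD.TwoA

/-!
# Rows of S4246: the large Ree groups (helper874)
-/

set_option autoImplicit false

namespace Cfsg.Agent.H874.PD

open Subgroup Cfsg Cfsg.Lie Cfsg.Agent.H160.PD Cfsg.Agent.H967.CopMat Cfsg.Agent.H967.CopSz
  Cfsg.Agent.H798.RowTw

universe u

/-- Elements of prime order commuting with an element of prime order of the isolated torus of odd order. -/
theorem isolated_odd {G : Type*} [Group G] [Finite G] {T : Subgroup G} (hT : IsCyclic ↥T)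
    (hc : ∀ r : ℕ, r.Prime → ∀ y ∈ T, orderOf y = r → centralizer {y} ≤ T) (hodd : ¬ 2 ∣ Nat.card ↥T) {l : ℕ}
    (hl : l.Prime) (hlT : l ∣ Nat.card ↥T) {x y z : G} (hx : orderOf x = l) (hy : (orderOf y).Prime)
    (hxy : x * y = y * x) (hz : orderOf z = 2) : y * z ≠ z * y := by
  intro hyz
  have := Fact.mk hl
  have h1 := (isolated hT hc hlT).2 x y hx hxy
  have := Fact.mk hy
  have h2 := (isolated hT hc h1).2 y z rfl hyz
  rw [hz] at h2
  exact hodd h2

/-- **The row of the large Ree groups.** -/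
theorem row_2f4 (K : Type u) [Group K] [Finite K] [IsSimpleGroup K] (h : Cfsg.Lie.Iso2F4 K) :
    Cfsg.Agent.H160.PD.Row K := by
  obtain ⟨F, iF, iF', m, hm, hF, ⟨e⟩⟩ := h
  have hs : IsSimpleGroup ↥(twistedF4 F (2 ^ m)) := e.symm.isSimpleGroup
  have hcard := Cfsg.Agent.S1068.result hF
  have hF' : Nat.card F = 2 ^ (2 * m + 1) := by rw [Nat.card_eq_fintype_card, hF]
  have h2f : Fact (Nat.Prime 2) := ⟨Nat.prime_two⟩
  have hc2 : CharP F 2 := charP_of_card Nat.prime_two hF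
  have hS : Cfsg.Lie.Iso2F4 ↥(twistedF4 F (2 ^ m)) := ⟨F, iF, iF', m, hm, hF, ⟨MulEquiv.refl _⟩⟩
  obtain ⟨l, hl, hE, hdv, hl2⟩ := Cfsg.Agent.Lib.Zsigmondy.exists_primitive (a := 2) (n := 12 * (2 * m + 1)) le_rfl
    (by omega) (by omega) (by omega)
  have hlle : 12 * (2 * m + 1) ≤ l - 1 := Nat.le_of_dvd (by have := hl.two_le; omega) hdv
  have hq1 : 1 ≤ 2 ^ (2 * m + 1) := Nat.one_le_pow _ _ (by norm_num)
  have hldvd : l ∣ (2 ^ (2 * m + 1)) ^ 6 + 1 := by
    have h1 : l ∣ 2 ^ (12 * (2 * m + 1)) - 1 := (hE _).2 dvd_rfl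
    have h2 : 2 ^ (12 * (2 * m + 1)) - 1 = (2 ^ (6 * (2 * m + 1)) - 1) * ((2 ^ (2 * m + 1)) ^ 6 + 1) := by
      have h3 : 2 ^ (12 * (2 * m + 1)) = ((2 ^ (2 * m + 1)) ^ 6) ^ 2 := by rw [← pow_mul, ← pow_mul]; ring_nf
      have h4 : 2 ^ (6 * (2 * m + 1)) = (2 ^ (2 * m + 1)) ^ 6 := by rw [← pow_mul]; ring_nf
      rw [h3, h4]
      exact fac _
    rw [h2] at h1
    rcases hl.dvd_mul.1 h1 with h3 | h3
    · have h4 := (hE _).1 h3
      have := Nat.le_of_dvd (by omega) h4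
      omega
    · exact h3
  have hdc : l ∣ Nat.card ↥(twistedF4 F (2 ^ m)) := by
    rw [hcard]
    exact hldvd.mul_left _
  have : Fact l.Prime := ⟨hl⟩
  have hna : ¬ IsMulCommutative ↥(twistedF4 F (2 ^ m)) := by
    intro hc
    have h1 : (Nat.card ↥(twistedF4 F (2 ^ m))).Prime := by
      let _ : CommGroup ↥(twistedF4 F (2 ^ m)) := { mul_comm := fun a b => hc.is_comm.comm a b }
      exact IsSimpleGroup.prime_card
    have h2 : 2 ∣ Nat.card ↥(twistedF4 F (2 ^ m)) := by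
      rw [hcard, mul_assoc, mul_assoc, mul_assoc]
      exact ((dvd_pow_self 2 (by omega)).trans (dvd_pow_self _ (by norm_num))).mul_right _
    have h3 := (Nat.prime_dvd_prime_iff_eq Nat.prime_two h1).1 h2
    have h4 := (Nat.prime_dvd_prime_iff_eq hl h1).1 hdc
    omega
  obtain ⟨ρ, hρi, hρ⟩ := exists_rep (F := F) (2 ^ m) hna
  -- the torus of `F₄(q)`
  obtain ⟨T, hT, hTc, hTi⟩ := f4_torus (F := F) _ hF
  have hlT : l ∣ Nat.card ↥T := by
    set q := 2 ^ (2 * m + 1) with hq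
    have h1 : (q ^ 2 + 1) * (Nat.card ↥T) = q ^ 6 + 1 := by
      have h2 : (q ^ 2 + 1) * (Nat.card ↥T + q ^ 2) = (q ^ 2 + 1) * (q ^ 4 + 1) := by rw [hTc]
      rw [mul_add] at h2
      have h3 : (q ^ 2 + 1) * (q ^ 4 + 1) = (q ^ 6 + 1) + (q ^ 2 + 1) * q ^ 2 := by ring
      rw [h3] at h2
      exact Nat.add_right_cancel h2
    rw [← h1] at hldvd
    rcases hl.dvd_mul.1 hldvd with h2 | h2
    · exfalso
      have h3 : l ∣ 2 ^ (4 * (2 * m + 1)) - 1 := by
        have h4 : 2 ^ (4 * (2 * m + 1)) - 1 = (q ^ 2 - 1) * (q ^ 2 + 1) := by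
          have h5 : 2 ^ (4 * (2 * m + 1)) = (q ^ 2) ^ 2 := by rw [hq, ← pow_mul, ← pow_mul]; ring_nf
          rw [h5]
          exact fac _
        rw [h4]
        exact h2.mul_left _
      have h4 := Nat.le_of_dvd (by omega) ((hE _).1 h3)
      omega
    · exact h2
  have hTodd : ¬ 2 ∣ Nat.card ↥T := by
    have hq : 2 ∣ 2 ^ (2 * m + 1) := dvd_pow_self 2 (by omega)
    have h1 : 2 ∣ (2 ^ (2 * m + 1)) ^ 2 := hq.trans (dvd_pow_self _ (by norm_num))
    have h2 : 2 ∣ (2 ^ (2 * m + 1)) ^ 4 := hq.trans (dvd_pow_self _ (by norm_num))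
    omega
  have hle := twF4_le_group (K := F) (2 ^ m)
  let inc := Subgroup.inclusion hle
  have hinc : Function.Injective inc := Subgroup.inclusion_injective hle
  have hout : out ↥(twistedF4 F (2 ^ m)) = 2 * m + 1 := S2128.result hm hF
  refine (row_two (S := ↥(twistedF4 F (2 ^ m))) hna (by unfold Cfsg.IsLieTypeChar; tauto) (by rw [hout]; omega)
    (good_of_lt hl (by omega) hout (by omega) (by omega) hdc) ?_ ?_).congr e
  · intro x hx a ha
    refine inner_of_fixes (stab_f4 _) ?_ ρ hρ Nat.prime_two hF' ⟨m, rfl⟩ hl (by omega) hE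
      (by rw [Fintype.card_fin]; norm_num) hx ?_ a ha
    · intro ψ
      obtain ⟨g, σ, h⟩ := Cfsg.Agent.H71.FldAut.twF4_aut hm hF ψ
      exact ⟨g, σ, h⟩
    · intro h
      have h1 : x = 1 := hρi (by rw [h, map_one])
      rw [h1, orderOf_one] at hx
      exact hl.one_lt.ne hx
  · intro x hx y hy hy2 hxy z hz hyz
    refine isolated_odd hT hTi hTodd hl hlT (x := inc x) (y := inc y) (z := inc z) ?_ ?_ ?_ ?_ ?_
    · rw [orderOf_injective inc hinc, hx]
    · rwa [orderOf_injective inc hinc]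
    · rw [← map_mul, ← map_mul, hxy]
    · rw [orderOf_injective inc hinc, hz]
    · rw [← map_mul, ← map_mul, hyz]

end Cfsg.Agent.H874.PD
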