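import Cfsg.Agent.H874.PD.Base
import Cfsg.Agent.LieRecognition.ReeAbs

/-!
# Rows of S4246: the small Ree groups, Sylow `3`-subgroups (helper874)
-/

set_option autoImplicit false

namespace Cfsg.Agent.H874.PD

open Subgroup Cfsg Cfsg.Agent.H160.PD Cfsg.Agent.LieRecognition.ReeAbs
open scoped Pointwise

/-- an element of order `k * r` from commuting elements -/
theorem orderOf_mul_prime {G : Type*} [Group G] {x y : G} {k r : ℕ} (hr : r.Prime) (hx : orderOf x = k)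
    (hy : orderOf y = r) (hkr : ¬ r ∣ k) (hxy : x * y = y * x) : orderOf (x * y) = k * r := by
  rw [(show Commute x y from hxy).orderOf_mul_eq_mul_orderOf_of_coprime (by
    rw [hx, hy]; exact ((Nat.Prime.coprime_iff_not_dvd hr).2 hkr).symm), hx, hy]

/-- the multiplicative order of `3` modulo `(3 ^ f - 1) / 2` -/
theorem dvd_of_dvd_three {f x : ℕ} (h : (3 ^ f - 1) / 2 ∣ 3 ^ x - 1) (hf : 2 ≤ f) : f ∣ x := by
  obtain ⟨e, he⟩ : ∃ e, e = (3 ^ f - 1) / 2 := ⟨_, rfl⟩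
  rw [← he] at h
  have hodd : Odd (3 ^ f) := Odd.pow (by decide)
  obtain ⟨k, hk⟩ := hodd
  have hke : e = k := by omega
  subst hke
  have h1 : 1 ≡ 3 ^ f [MOD e] := (Nat.modEq_iff_dvd' (Nat.one_le_pow _ _ (by norm_num))).2 (by
    rw [hk]; exact ⟨2, by omega⟩)
  have h2 : 1 ≡ 3 ^ x [MOD e] := (Nat.modEq_iff_dvd' (Nat.one_le_pow _ _ (by norm_num))).2 h
  have h3 : 3 ^ x ≡ 3 ^ (x % f) [MOD e] := by
    have h4 : 3 ^ x = (3 ^ f) ^ (x / f) * 3 ^ (x % f) := by rw [← pow_mul, ← pow_add, Nat.div_add_mod]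
    rw [h4]
    have h5 : (3 ^ f) ^ (x / f) ≡ 1 [MOD e] := by
      have := (h1.symm).pow (x / f)
      rwa [one_pow] at this
    have h6 := h5.mul_right (3 ^ (x % f))
    rwa [one_mul] at h6
  have h4 : e ∣ 3 ^ (x % f) - 1 := (Nat.modEq_iff_dvd' (Nat.one_le_pow _ _ (by norm_num))).1 (h2.trans h3)
  have h5 : x % f < f := Nat.mod_lt _ (by omega)
  have h6 : 3 ^ (x % f) ≤ 3 ^ (f - 1) := Nat.pow_le_pow_right (by norm_num) (by omega)
  have h7 : 3 ^ f = 3 * 3 ^ (f - 1) := by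
    rw [← pow_succ']
    congr 1
    omega
  have h9 : 3 ≤ 3 ^ (f - 1) := by
    calc 3 = 3 ^ 1 := by norm_num
      _ ≤ 3 ^ (f - 1) := Nat.pow_le_pow_right (by norm_num) (by omega)
  have h8 : 3 ^ (x % f) - 1 = 0 := by
    by_contra hne
    have := Nat.le_of_dvd (Nat.pos_of_ne_zero hne) h4
    omega
  have h10 : x % f = 0 := by
    by_contra hne
    have := Nat.one_lt_pow hne (by norm_num : 1 < 3)
    omega
  exact Nat.dvd_of_mod_eq_zero h10

section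

variable {K : Type*} [Field K] {G : Type*} [Group G] {m : ℕ} {U : K → K → K → G} {h : Kˣ → G} {n : G}

/-- the unipotent subgroup -/
def P0 (D : Data m U h n) : Subgroup G where
  carrier := {g | ∃ t u v, g = U t u v}
  mul_mem' := by
    rintro _ _ ⟨t, u, v, rfl⟩ ⟨t', u', v', rfl⟩
    exact ⟨_, _, _, D.U_mul _ _ _ _ _ _⟩
  one_mem' := ⟨0, 0, 0, D.U_zero.symm⟩
  inv_mem' := by
    rintro _ ⟨t, u, v, rfl⟩
    refine ⟨-t, t * (-t) ^ (3 ^ (m + 1)) - u, -(v - u * (-t) - t ^ 2 * (-t) ^ (3 ^ (m + 1)) +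
      t * (-t) * (-t) ^ (3 ^ (m + 1))), ?_⟩
    rw [inv_eq_iff_mul_eq_one, D.U_mul, ← D.U_zero]
    congr 1 <;> ring

theorem mem_P0 (D : Data m U h n) {g : G} : g ∈ P0 D ↔ ∃ t u v, g = U t u v := Iff.rfl

theorem U_inj (D : Data m U h n) {t u v t' u' v' : K} (he : U t u v = U t' u' v') : t = t' ∧ u = u' ∧ v = v' := by
  obtain ⟨h1, h2, h3, -⟩ := D.inj₁ t u v 1 t' u' v' 1 (by rw [he])
  exact ⟨h1, h2, h3⟩

theorem h_inj (D : Data m U h n) : Function.Injective h := by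
  intro a b hab
  exact (D.inj₁ 0 0 0 a 0 0 0 b (by rw [hab])).2.2.2

theorem h_pow (D : Data m U h n) (a : Kˣ) (i : ℕ) : h (a ^ i) = h a ^ i := by
  induction i with
  | zero => rw [pow_zero, pow_zero, D.h_one]
  | succ i ih => rw [pow_succ, pow_succ, D.h_mul, ih]

theorem orderOf_h (D : Data m U h n) (a : Kˣ) : orderOf (h a) = orderOf a := by
  apply Nat.dvd_antisymm
  · apply orderOf_dvd_of_pow_eq_one
    rw [← h_pow D, pow_orderOf_eq_one, D.h_one]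
  · apply orderOf_dvd_of_pow_eq_one
    apply h_inj D
    rw [h_pow D, pow_orderOf_eq_one, D.h_one]

theorem h_mem_normalizer (D : Data m U h n) (a : Kˣ) : h a ∈ normalizer ((P0 D : Subgroup G) : Set G) := by
  have key : ∀ (a : Kˣ), ∀ y ∈ P0 D, h a * y * (h a)⁻¹ ∈ P0 D := by
    rintro a _ ⟨t, u, v, rfl⟩
    rw [D.h_U]
    exact ⟨_, _, _, mul_inv_cancel_right _ _⟩
  rw [mem_normalizer_iff]
  intro y
  refine ⟨key a y, fun hy => ?_⟩
  have h1 := key a⁻¹ _ hy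
  rw [D.h_inv] at h1
  have h2 : (h a)⁻¹ * (h a * y * (h a)⁻¹) * (h a)⁻¹⁻¹ = y := by group
  rwa [h2] at h1

variable [Fintype K]

theorem card_P0 (D : Data m U h n) (hK : Fintype.card K = 3 ^ (2 * m + 1)) :
    Nat.card ↥(P0 D) = 3 ^ (3 * (2 * m + 1)) := by
  have h1 : Nat.card ↥(P0 D) = Nat.card (K × K × K) := by
    symm
    refine Nat.card_congr (Equiv.ofBijective (fun x => (⟨U x.1 x.2.1 x.2.2, ⟨_, _, _, rfl⟩⟩ : ↥(P0 D))) ⟨?_, ?_⟩)
    · rintro ⟨t, u, v⟩ ⟨t', u', v'⟩ he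
      obtain ⟨h1, h2, h3⟩ := U_inj D (congrArg Subtype.val he)
      simp only at h1 h2 h3
      rw [h1, h2, h3]
    · rintro ⟨_, t, u, v, rfl⟩
      exact ⟨(t, u, v), rfl⟩
  rw [h1, Nat.card_prod, Nat.card_prod, Nat.card_eq_fintype_card, hK, ← pow_add, ← pow_add]
  congr 1
  ring

theorem U_cube (D : Data m U h n) (hK : Fintype.card K = 3 ^ (2 * m + 1)) {t u v : K} (hc : U t u v ^ 3 = 1) :
    t = 0 := by
  have hch : CharP K 3 := charP_three hK
  have h3 : (3 : K) = 0 := by exact_mod_cast CharP.cast_eq_zero K 3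
  have hs : (t + t) ^ (3 ^ (m + 1)) = t ^ (3 ^ (m + 1)) + t ^ (3 ^ (m + 1)) := by
    have : Fact (Nat.Prime 3) := ⟨Nat.prime_three⟩
    exact add_pow_char_pow t t 3 (m + 1)
  rw [pow_succ', pow_two, D.U_mul, D.U_mul, ← D.U_zero] at hc
  obtain ⟨-, -, hv⟩ := U_inj D hc
  rw [hs] at hv
  have h4 : t ^ 2 * t ^ (3 ^ (m + 1)) = 0 := by
    linear_combination -hv + (v - u * t + t ^ 2 * t ^ (3 ^ (m + 1))) * h3
  rw [← pow_add] at h4
  exact pow_eq_zero_iff (by positivity) |>.1 h4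

variable [Finite G]

/-- a subgroup of exponent `3` has order at most `q ^ 2` -/
theorem exp_three (D : Data m U h n) (hK : Fintype.card K = 3 ^ (2 * m + 1))
    (hG : (Nat.card G).factorization 3 = 3 * (2 * m + 1)) {R : Subgroup G} (hR : IsPGroup 3 ↥R)
    (hR3 : ∀ x ∈ R, x ^ 3 = 1) : v 3 R ≤ 2 * (2 * m + 1) := by
  have : Fact (Nat.Prime 3) := ⟨Nat.prime_three⟩
  obtain ⟨P, hP⟩ := hR.exists_le_sylow
  let S0 : Sylow 3 G := Sylow.ofCard (P0 D) (by rw [card_P0 D hK, hG])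
  obtain ⟨g, hg⟩ := MulAction.exists_smul_eq G P S0
  have hmap : ∀ x ∈ R, g * x * g⁻¹ ∈ P0 D := by
    intro x hx
    have h1 : MulAut.conj g x ∈ (g • P : Sylow 3 G) := by
      rw [Sylow.smul_def]
      exact smul_mem_pointwise_smul _ _ _ (hP hx)
    rw [hg] at h1
    exact h1
  have hex : ∀ x : R, ∃ y : K × K, g * (x : G) * g⁻¹ = U 0 y.1 y.2 := by
    rintro ⟨x, hx⟩
    obtain ⟨t, u, v, hU⟩ := hmap x hx
    have h1 : U t u v ^ 3 = 1 := by
      rw [← hU, conj_pow, hR3 x hx]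
      group
    have h2 := U_cube D hK h1
    subst h2
    exact ⟨(u, v), hU⟩
  choose φ hφ using hex
  have hinj : Function.Injective φ := by
    intro x y hxy
    have h1 : g * (x : G) * g⁻¹ = g * (y : G) * g⁻¹ := by rw [hφ, hφ, hxy]
    exact Subtype.ext (mul_left_cancel (mul_right_cancel h1))
  have hle := Nat.card_le_card_of_injective φ hinj
  rw [Nat.card_prod, Nat.card_eq_fintype_card (α := K), hK, ← pow_add] at hle
  obtain ⟨k, hk⟩ := IsPGroup.iff_card.1 hR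
  rw [hk] at hle
  have h1 := (Nat.pow_le_pow_iff_right (by norm_num : 1 < 3)).1 hle
  have h2 : v 3 R = k := by
    show (Nat.card ↥R).factorization 3 = k
    rw [hk, Nat.Prime.factorization_pow Nat.prime_three, Finsupp.single_eq_same]
  omega

/-- the element of order `(q - 1) / 2` normalising a Sylow `3`-subgroup -/
theorem exists_d (D : Data m U h n) (hK : Fintype.card K = 3 ^ (2 * m + 1))
    (hG : (Nat.card G).factorization 3 = 3 * (2 * m + 1))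
    (hno : ∀ r : ℕ, r.Prime → r ≠ 2 → r ≠ 3 → ∀ z : G, orderOf z ≠ 3 * r) (P : Sylow 3 G) :
    ∃ d ∈ normalizer ((P : Subgroup G) : Set G), orderOf d = (3 ^ (2 * m + 1) - 1) / 2 ∧
      ∀ i : ℕ, d ^ i ≠ 1 → ∀ y ∈ (P : Subgroup G), d ^ i * y = y * d ^ i → y = 1 := by
  classical
  have hf3 : Fact (Nat.Prime 3) := ⟨Nat.prime_three⟩
  let S0 : Sylow 3 G := Sylow.ofCard (P0 D) (by rw [card_P0 D hK, hG])
  obtain ⟨g, hg⟩ := MulAction.exists_smul_eq G S0 P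
  obtain ⟨a0, ha0⟩ := IsCyclic.exists_generator (α := Kˣ)
  have hq8 := three_pow_odd_mod m
  have ha0' : orderOf a0 = 3 ^ (2 * m + 1) - 1 := by
    rw [orderOf_eq_card_of_forall_mem_zpowers ha0, Nat.card_eq_fintype_card, Fintype.card_units, hK]
  have ha : orderOf (a0 ^ 2) = (3 ^ (2 * m + 1) - 1) / 2 := by
    rw [orderOf_pow_of_dvd (by norm_num) (by rw [ha0']; omega), ha0']
  have hmapN : ∀ y, y ∈ (P : Subgroup G) ↔ g⁻¹ * y * g ∈ P0 D := by
    intro y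
    have h1 : y ∈ (g • S0 : Sylow 3 G) ↔ g⁻¹ * y * g ∈ P0 D := by
      rw [Sylow.smul_def, ← SetLike.mem_coe]
      show y ∈ (MulAut.conj g) • (P0 D) ↔ _
      rw [mem_pointwise_smul_iff_inv_smul_mem, ← map_inv, MulAut.smul_def, MulAut.conj_apply, inv_inv]
    rw [← h1, hg]
    rfl
  have hN0 := h_mem_normalizer D (a0 ^ 2)
  have hord : orderOf (g * h (a0 ^ 2) * g⁻¹) = (3 ^ (2 * m + 1) - 1) / 2 := by
    rw [← ha, ← orderOf_h D]
    exact MulEquiv.orderOf_eq (MulAut.conj g) _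
  refine ⟨g * h (a0 ^ 2) * g⁻¹, ?_, hord, ?_⟩
  · rw [mem_normalizer_iff]
    intro y
    show y ∈ (P : Subgroup G) ↔ g * h (a0 ^ 2) * g⁻¹ * y * (g * h (a0 ^ 2) * g⁻¹)⁻¹ ∈ (P : Subgroup G)
    rw [hmapN, hmapN, show g⁻¹ * (g * h (a0 ^ 2) * g⁻¹ * y * (g * h (a0 ^ 2) * g⁻¹)⁻¹) * g =
      h (a0 ^ 2) * (g⁻¹ * y * g) * (h (a0 ^ 2))⁻¹ by group]
    exact mem_normalizer_iff.1 hN0 _
  · intro i hi y hy hc
    by_contra hy1
    obtain ⟨r, hr, hrd⟩ := Nat.exists_prime_and_dvd (n := orderOf ((g * h (a0 ^ 2) * g⁻¹) ^ i)) (by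
      rw [Ne, orderOf_eq_one_iff]; exact hi)
    have hrq : r ∣ (3 ^ (2 * m + 1) - 1) / 2 := hrd.trans ((orderOf_pow_dvd i).trans (by rw [hord]))
    have hr2 : r ≠ 2 := by
      rintro rfl
      omega
    have hr3 : r ≠ 3 := by
      rintro rfl
      have h1 : 3 ∣ 3 ^ (2 * m + 1) := dvd_pow_self 3 (by omega)
      omega
    obtain ⟨j, hj⟩ := hrd
    have hj0 : j ≠ 0 := by
      rintro rfl
      rw [mul_zero] at hj
      exact (orderOf_pos ((g * h (a0 ^ 2) * g⁻¹) ^ i)).ne' hj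
    have hz : orderOf (((g * h (a0 ^ 2) * g⁻¹) ^ i) ^ j) = r := by
      rw [orderOf_pow_of_dvd hj0 (by rw [hj]; exact dvd_mul_left _ _), hj, Nat.mul_div_cancel _ (Nat.pos_of_ne_zero hj0)]
    -- an element of order 3
    obtain ⟨k, hk⟩ := (IsPGroup.iff_orderOf.1 P.isPGroup') ⟨y, hy⟩
    rw [Subgroup.orderOf_mk] at hk
    have hk0 : k ≠ 0 := by
      rintro rfl
      rw [pow_zero, orderOf_eq_one_iff] at hk
      exact hy1 hk
    obtain ⟨k', rfl⟩ := Nat.exists_eq_succ_of_ne_zero hk0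
    have hy3 : orderOf (y ^ 3 ^ k') = 3 := by
      rw [orderOf_pow_of_dvd (by positivity) (by rw [hk]; exact pow_dvd_pow _ (Nat.le_succ _)), hk,
        Nat.pow_div (Nat.le_succ _) (by norm_num)]
      simp
    refine hno r hr hr2 hr3 (y ^ 3 ^ k' * ((g * h (a0 ^ 2) * g⁻¹) ^ i) ^ j) (orderOf_mul_prime hr hy3 hz ?_ ?_)
    · intro h1
      exact hr3 ((Nat.prime_dvd_prime_iff_eq hr Nat.prime_three).1 h1)
    · have h1 : Commute ((g * h (a0 ^ 2) * g⁻¹) ^ i) y := hc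
      exact ((h1.pow_left j).pow_right (3 ^ k')).symm.eq

end

end Cfsg.Agent.H874.PD
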