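import Cfsg.Agent.H874.PD.ReeAux
import Cfsg.Agent.H874.PD.ReeData
import Cfsg.Agent.H874.PD.TwoA
import Cfsg.Agent.ChevalleyStructure.Ree.Data
import Cfsg.Agent.S0205
import Cfsg.Agent.S1155
import Cfsg.Agent.S1157
import Cfsg.Agent.S1158
import Cfsg.Agent.S2358
import Cfsg.Agent.S2361

/-!
# Rows of S4246: the small Ree groups (helper874)
-/

set_option autoImplicit false

namespace Cfsg.Agent.H874.PD

open Subgroup Cfsg Cfsg.Lie Cfsg.Agent.H160.PD Cfsg.Agent.H568 Cfsg.Agent.H967.CopMat Cfsg.Agent.H967.CopSz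
  Cfsg.Agent.H798.RowTw

universe u

theorem prodT {q w : ℕ} (hw : w * w = 3 * q) (hwq : w ≤ q) : (q - w + 1) * (q + w + 1) + q = q ^ 2 + 1 := by
  obtain ⟨k, rfl⟩ := Nat.exists_eq_add_of_le hwq
  have h1 : w + k - w = k := by omega
  rw [h1]
  nlinarith [hw]

/-- the arithmetic of the element orders of the small Ree groups -/
structure Ar (q w : ℕ) : Prop where
  hw : w * w = 3 * q
  hwq : w ≤ q
  h3q : 3 ∣ q
  h3w : 3 ∣ w
  hq2 : q % 8 = 3
  hw2 : w % 2 = 1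

theorem ar (m : ℕ) : Ar (3 ^ (2 * m + 1)) (3 ^ (m + 1)) where
  hw := by rw [← pow_add, ← pow_succ']; congr 1; ring
  hwq := Nat.pow_le_pow_right (by norm_num) (by omega)
  h3q := dvd_pow_self 3 (by omega)
  h3w := dvd_pow_self 3 (by omega)
  hq2 := Cfsg.Agent.LieRecognition.ReeAbs.three_pow_odd_mod m
  hw2 := Nat.odd_iff.1 (Odd.pow (by decide))

/-- the list of the element orders -/
def Od (q w d : ℕ) : Prop := d ∣ 6 ∨ d ∣ 9 ∨ d ∣ q - 1 ∨ d ∣ (q + 1) / 2 ∨ d ∣ q - w + 1 ∨ d ∣ q + w + 1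

theorem Ar.not_three {q w : ℕ} (a : Ar q w) {d : ℕ} (hd : 3 ∣ d) : ¬ (d ∣ q - 1) ∧ ¬ (d ∣ (q + 1) / 2) ∧
    ¬ (d ∣ q - w + 1) ∧ ¬ (d ∣ q + w + 1) := by
  have h1 := a.h3q
  have h2 := a.h3w
  have h3 := a.hq2
  have h4 := a.hwq
  refine ⟨fun h => ?_, fun h => ?_, fun h => ?_, fun h => ?_⟩ <;>
  · have h5 := hd.trans h
    omega

theorem Ar.no3r {q w : ℕ} (a : Ar q w) {r : ℕ} (hr : r.Prime) (hr2 : r ≠ 2) (hr3 : r ≠ 3) : ¬ Od q w (3 * r) := by
  obtain ⟨h1, h2, h3, h4⟩ := a.not_three (d := 3 * r) (dvd_mul_right _ _)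
  rintro (h | h | h | h | h | h)
  · have h5 : 3 * r ≤ 6 := Nat.le_of_dvd (by norm_num) h
    have := hr.two_le
    omega
  · have h5 : 3 * r ≤ 9 := Nat.le_of_dvd (by norm_num) h
    have := hr.two_le
    omega
  · exact h1 h
  · exact h2 h
  · exact h3 h
  · exact h4 h

theorem Ar.no9r {q w : ℕ} (a : Ar q w) {r : ℕ} (hr : r.Prime) : ¬ Od q w (9 * r) := by
  obtain ⟨h1, h2, h3, h4⟩ := a.not_three (d := 9 * r) (Dvd.dvd.mul_right (by norm_num) _)
  have h6 := hr.two_le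
  rintro (h | h | h | h | h | h)
  · have h5 : 9 * r ≤ 6 := Nat.le_of_dvd (by norm_num) h
    omega
  · have h5 : 9 * r ≤ 9 := Nat.le_of_dvd (by norm_num) h
    omega
  · exact h1 h
  · exact h2 h
  · exact h3 h
  · exact h4 h

/-- the primes dividing `q ∓ w + 1` -/
theorem Ar.no2t {q w : ℕ} (a : Ar q w) {t : ℕ} (ht : t.Prime) (ht2 : t ≠ 2) (h : t ∣ q - w + 1 ∨ t ∣ q + w + 1) :
    ¬ Od q w (2 * t) := by
  have hp := prodT a.hw a.hwq
  have h1 : t ∣ q ^ 2 + 1 - q := by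
    rw [← hp, Nat.add_sub_cancel]
    rcases h with h | h
    · exact h.mul_right _
    · exact h.mul_left _
  have hq : 3 ≤ q := by have := a.hq2; omega
  have ht3 : t ≠ 3 := by
    rintro rfl
    have h2 := a.not_three (d := 3) dvd_rfl
    rcases h with h | h
    · exact h2.2.2.1 h
    · exact h2.2.2.2 h
  have hodd : ∀ d, 2 ∣ d → ¬ d ∣ q - w + 1 ∧ ¬ d ∣ q + w + 1 := by
    intro d hd
    have h2 := a.hq2
    have h3 := a.hw2
    have h4 := a.hwq
    refine ⟨fun h => ?_, fun h => ?_⟩ <;>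
    · have h5 := hd.trans h
      omega
  rintro (h2 | h2 | h2 | h2 | h2 | h2)
  · have h3 : 2 * t ∣ 2 * 3 := by simpa using h2
    have h4 : t ∣ 3 := (Nat.mul_dvd_mul_iff_left (by norm_num)).1 h3
    exact ht3 ((Nat.prime_dvd_prime_iff_eq ht Nat.prime_three).1 h4)
  · have h3 : 2 ∣ 9 := (dvd_mul_right 2 t).trans h2
    omega
  · have h3 : t ∣ q - 1 := (dvd_mul_left t 2).trans h2
    obtain ⟨k, rfl⟩ := Nat.exists_eq_add_of_le (show 1 ≤ q by omega)
    have h4 : t ∣ k := by simpa using h3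
    have h5 : (1 + k) ^ 2 + 1 - (1 + k) = k * (k + 1) + 1 := by
      have : (1 + k) ^ 2 + 1 = k * (k + 1) + 1 + (1 + k) := by ring
      rw [this, Nat.add_sub_cancel]
    rw [h5] at h1
    have h6 := (Nat.dvd_add_right (h4.mul_right (k + 1))).1 h1
    exact ht.one_lt.ne' (Nat.dvd_one.1 h6)
  · have h3 : t ∣ q + 1 := by
      have h4 : (q + 1) / 2 ∣ q + 1 := ⟨2, by have := a.hq2; omega⟩
      exact ((dvd_mul_left t 2).trans h2).trans h4
    have h5 : q ^ 2 + 1 - q + 3 * q = (q + 1) ^ 2 := by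
      have h6 : q ≤ q ^ 2 + 1 := by nlinarith
      have h7 : q ^ 2 + 1 - q + q = q ^ 2 + 1 := Nat.sub_add_cancel h6
      nlinarith
    have h6 : t ∣ 3 * q := (Nat.dvd_add_right h1).1 (by rw [h5]; exact h3.trans (dvd_pow_self _ (by norm_num)))
    rcases ht.dvd_mul.1 h6 with h7 | h7
    · exact ht3 ((Nat.prime_dvd_prime_iff_eq ht Nat.prime_three).1 h7)
    · have h8 := (Nat.dvd_add_right h7).1 h3
      exact ht.one_lt.ne' (Nat.dvd_one.1 h8)
  · exact (hodd _ (dvd_mul_right 2 t)).1 h2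
  · exact (hodd _ (dvd_mul_right 2 t)).2 h2

/-- `2 v_3(f) < f` -/
theorem two_mul_fac_lt {f : ℕ} (hf : 0 < f) : 2 * f.factorization 3 < f := by
  have h1 : 3 ^ f.factorization 3 ≤ f := Nat.ordProj_le 3 hf.ne'
  have h2 : ∀ k : ℕ, 2 * k < 3 ^ k := by
    intro k
    induction k with
    | zero => norm_num
    | succ k ih => rw [pow_succ]; omega
  exact (h2 _).trans_le h1

end Cfsg.Agent.H874.PD
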