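import Cfsg.Agent.H874.PD.Base
import Cfsg.Agent.H173.RU.Lin

/-!
# Rows of S4246: the small Ree groups, group theoretic part (helper874)
-/

set_option autoImplicit false

namespace Cfsg.Agent.H874.PD

open Subgroup Cfsg Cfsg.Agent.H160.PD

variable {S : Type*} [Group S] [Finite S]

/-- `u d u⁻¹` runs through the coset `P d` if `d` has no fixed points on `P`. -/
theorem exists_conj_of_coset {P : Subgroup S} {d : S} (hd : d ∈ normalizer (P : Set S))
    (hf : ∀ y ∈ P, d * y = y * d → y = 1) {p : S} (hp : p ∈ P) : ∃ u ∈ P, p * d = u * d * u⁻¹ := by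
  have hN : ∀ u ∈ P, u * d * u⁻¹ * d⁻¹ ∈ P := by
    intro u hu
    have h1 : d * u⁻¹ * d⁻¹ ∈ P := (mem_normalizer_iff.1 hd _).1 (P.inv_mem hu)
    have h2 : u * d * u⁻¹ * d⁻¹ = u * (d * u⁻¹ * d⁻¹) := by group
    rw [h2]
    exact P.mul_mem hu h1
  let φ : P → P := fun u => ⟨(u : S) * d * (u : S)⁻¹ * d⁻¹, hN u u.2⟩
  have hφ : Function.Injective φ := by
    intro u w huw
    have h1 : (u : S) * d * (u : S)⁻¹ * d⁻¹ = (w : S) * d * (w : S)⁻¹ * d⁻¹ := congrArg Subtype.val huw
    have h2 : (u : S) * d * (u : S)⁻¹ = (w : S) * d * (w : S)⁻¹ := mul_right_cancel h1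
    have h3 : d * ((u : S)⁻¹ * w) = (u : S)⁻¹ * w * d := by
      calc d * ((u : S)⁻¹ * w) = (u : S)⁻¹ * ((u : S) * d * (u : S)⁻¹) * w := by group
        _ = (u : S)⁻¹ * ((w : S) * d * (w : S)⁻¹) * w := by rw [h2]
        _ = (u : S)⁻¹ * w * d := by group
    have h4 := hf _ (P.mul_mem (P.inv_mem u.2) w.2) h3
    exact Subtype.ext (inv_mul_eq_one.1 h4)
  obtain ⟨u, hu⟩ := (Finite.injective_iff_surjective.1 hφ) ⟨p, hp⟩
  refine ⟨u, u.2, ?_⟩
  have h1 : (u : S) * d * (u : S)⁻¹ * d⁻¹ = p := congrArg Subtype.val hu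
  rw [← h1]
  group

/-- an automorphism of prime order `t` preserving a set of size prime to `t` has a fixed point there -/
theorem exists_fixed (b : MulAut S) (hb : (orderOf b).Prime) {X : Set S} (hX : ∀ x ∈ X, b x ∈ X)
    (hc : ¬ orderOf b ∣ Nat.card X) : ∃ x ∈ X, b x = x := by
  by_contra hno
  push Not at hno
  apply hc
  refine Cfsg.Agent.H173.RU.orderOf_dvd_of_free (G := MulAut S) b X hX ?_
  intro j x hx hj
  by_cases hjt : orderOf b ∣ j
  · exact orderOf_dvd_iff_pow_eq_one.1 hjt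
  · exfalso
    have hcop : Nat.Coprime (orderOf b) j := (Nat.Prime.coprime_iff_not_dvd hb).2 hjt
    have h1 : Nat.Coprime j (orderOf b) := hcop.symm
    obtain ⟨k, hk⟩ := Nat.exists_mul_mod_eq_one_of_coprime h1 hb.one_lt
    have h2 : ∀ i : ℕ, (b ^ j) ^ i • x = x := by
      intro i
      induction i with
      | zero => simp
      | succ i ih => rw [pow_succ, mul_smul, hj, ih]
    have h3 : (b ^ j) ^ k = b := by
      rw [← pow_mul, ← pow_mod_orderOf, hk.2, pow_one]
    apply hno x hx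
    have h4 := h2 k
    rw [h3] at h4
    exact h4

/-- a `p'`-power of an element of `N(P) \ P`, of prime order -/
theorem exists_prime_power {p : ℕ} [hp : Fact p.Prime] (P : Sylow p S) {k : S}
    (hk : k ∈ normalizer ((P : Subgroup S) : Set S)) (hkP : k ∉ (P : Subgroup S)) :
    ∃ j : ℕ, (orderOf (k ^ j)).Prime ∧ orderOf (k ^ j) ≠ p := by
  have h1 : ¬ IsPGroup p ↥(zpowers k) := by
    intro h1
    apply hkP
    have h2 : IsPGroup p ↥(zpowers k ⊔ (P : Subgroup S) : Subgroup S) :=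
      IsPGroup.to_sup_of_normal_right' h1 P.isPGroup' (by rwa [zpowers_le])
    have h3 := P.is_maximal' h2 le_sup_right
    rw [← h3]
    exact (le_sup_left : zpowers k ≤ zpowers k ⊔ (P : Subgroup S)) (mem_zpowers k)
  have h2 : ∃ r, r.Prime ∧ r ≠ p ∧ r ∣ orderOf k := by
    by_contra hno
    push Not at hno
    apply h1
    have h3 : orderOf k = p ^ (orderOf k).primeFactorsList.length :=
      Nat.eq_prime_pow_of_unique_prime_dvd (orderOf_pos k).ne' (fun {r} hr hrd => by
        by_contra hne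
        exact hno r hr hne hrd)
    exact IsPGroup.of_card (n := (orderOf k).primeFactorsList.length) (by rw [Nat.card_zpowers]; exact h3)
  obtain ⟨r, hr, hrp, j, hj⟩ := h2
  have hj0 : j ≠ 0 := by
    rintro rfl
    rw [mul_zero] at hj
    exact (orderOf_pos k).ne' hj
  refine ⟨j, ?_, ?_⟩ <;>
  · have h4 : orderOf (k ^ j) = r := by
      rw [orderOf_pow_of_dvd hj0 (by rw [hj]; exact dvd_mul_left _ _), hj, Nat.mul_div_cancel _ (Nat.pos_of_ne_zero hj0)]
    rw [h4]
    assumption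

/-- **The bound for the fixed points of an automorphism of prime order `≠ p`**, for TI Sylow `p`-subgroups. -/
theorem two_mul_v_le (hZ : center S = ⊥) {p c e : ℕ} [hp : Fact p.Prime]
    (hTI : ∀ P Q : Sylow p S, P ≠ Q → (P : Subgroup S) ⊓ (Q : Subgroup S) = ⊥)
    (hd : ∀ P : Sylow p S, ∃ d ∈ normalizer ((P : Subgroup S) : Set S), orderOf d = e ∧
      ∀ i : ℕ, d ^ i ≠ 1 → ∀ y ∈ (P : Subgroup S), d ^ i * y = y * d ^ i → y = 1) (he : 1 < e)
    (hc : ∀ k : S, (orderOf k).Prime → orderOf k ≠ p → v p (centralizer {k}) ≤ c)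
    (hnum : ∀ x, x < v p S → e ∣ p ^ x - 1 → 2 * x ≤ v p S + c)
    {b : MulAut S} (hb : (orderOf b).Prime) (hbp : orderOf b ≠ p) (hlt : v p (Fx b) < v p S) :
    2 * v p (Fx b) ≤ v p S + c := by
  by_cases h0 : v p (Fx b) = 0
  · omega
  let Q0 : Sylow p ↥(Fx b) := default
  obtain ⟨Q, hQ⟩ : ∃ Q : Subgroup S, Q = (Q0 : Subgroup ↥(Fx b)).map (Fx b).subtype := ⟨_, rfl⟩
  have hQc : Nat.card ↥Q = p ^ v p (Fx b) := by
    rw [hQ, ← Nat.card_congr ((Q0 : Subgroup ↥(Fx b)).equivMapOfInjective _ (subtype_injective _)).toEquiv,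
      Q0.card_eq_multiplicity]
  have hQf : Q ≤ Fx b := by
    rw [hQ]
    exact map_subtype_le _
  have hQ1 : Q ≠ ⊥ := by
    intro h1
    rw [h1, card_bot] at hQc
    have h4 := Nat.one_lt_pow h0 hp.1.one_lt
    omega
  have hQp : IsPGroup p ↥Q := IsPGroup.of_card hQc
  obtain ⟨P, hP⟩ := hQp.exists_le_sylow
  -- `b` normalises `P`
  have hbP : ∀ y ∈ (P : Subgroup S), b y ∈ (P : Subgroup S) := by
    have h1 : Nat.card ↥((P : Subgroup S).map b.toMonoidHom) = p ^ (Nat.card S).factorization p := by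
      rw [card_map', P.card_eq_multiplicity]
    have h2 : P = Sylow.ofCard _ h1 := by
      by_contra hne
      have h3 := hTI _ _ hne
      apply hQ1
      rw [eq_bot_iff, ← h3]
      intro y hy
      refine ⟨hP hy, ?_⟩
      show y ∈ (P : Subgroup S).map b.toMonoidHom
      exact ⟨y, hP hy, hQf hy⟩
    intro y hy
    have h3 : b y ∈ ((Sylow.ofCard _ h1 : Sylow p S) : Subgroup S) := ⟨y, hy, rfl⟩
    rwa [← h2] at h3
  have hbP' : ∀ y, b y ∈ (P : Subgroup S) ↔ y ∈ (P : Subgroup S) := by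
    intro y
    refine ⟨fun h => ?_, hbP y⟩
    have h1 : ∀ i : ℕ, (b ^ i) (b y) ∈ (P : Subgroup S) := by
      intro i
      induction i with
      | zero => simpa using h
      | succ i ih => rw [pow_succ', MulAut.mul_apply]; exact hbP _ ih
    have h2 := h1 (orderOf b - 1)
    rw [← MulAut.mul_apply, ← pow_succ, Nat.sub_add_cancel hb.one_lt.le, pow_orderOf_eq_one] at h2
    exact h2
  -- the fixed points of `b` on `P`
  have hx : Nat.card ↥(Fx b ⊓ (P : Subgroup S) : Subgroup S) = p ^ v p (Fx b) := by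
    have h1 : IsPGroup p ↥(Fx b ⊓ (P : Subgroup S) : Subgroup S) := P.isPGroup'.to_le inf_le_right
    obtain ⟨n, hn⟩ := IsPGroup.iff_card.1 h1
    rw [hn]
    congr 1
    apply le_antisymm
    · have h2 : p ^ n ∣ Nat.card ↥(Fx b) := by
        rw [← hn]
        exact card_dvd_of_le inf_le_left
      exact (hp.1.pow_dvd_iff_le_factorization Nat.card_pos.ne').1 h2
    · have h2 : p ^ v p (Fx b) ∣ p ^ n := by
        rw [← hn, ← hQc]
        exact card_dvd_of_le (le_inf hQf hP)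
      exact (Nat.pow_dvd_pow_iff_le_right hp.1.one_lt).1 h2
  obtain ⟨d, hdN, hde, hdf⟩ := hd P
  have hd1 : d ≠ 1 := by
    rintro rfl
    rw [orderOf_one] at hde
    omega
  by_cases hk : b d * d⁻¹ ∈ (P : Subgroup S)
  · -- a fixed conjugate of `d`
    have hPt : ¬ orderOf b ∣ Nat.card ↥(P : Subgroup S) := by
      rw [P.card_eq_multiplicity]
      intro h1
      exact hbp ((Nat.prime_dvd_prime_iff_eq hb hp.1).1 (hb.dvd_of_dvd_pow h1))
    obtain ⟨d', hd'P, hd'b⟩ := exists_fixed b hb (X := {y | y * d⁻¹ ∈ (P : Subgroup S)}) (by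
      intro y hy
      rw [Set.mem_ofPred_eq] at hy ⊢
      have h1 : b y * d⁻¹ = b (y * d⁻¹) * (b d * d⁻¹) := by
        rw [map_mul, map_inv]; group
      rw [h1]
      exact mul_mem (hbP _ hy) hk) (by
      have h1 : Nat.card ↥{y | y * d⁻¹ ∈ (P : Subgroup S)} = Nat.card ↥(P : Subgroup S) :=
        Nat.card_congr ⟨fun y => ⟨(y : S) * d⁻¹, y.2⟩, fun y => ⟨(y : S) * d, by
          rw [Set.mem_ofPred_eq, mul_inv_cancel_right]; exact y.2⟩, fun y => by simp, fun y => by simp⟩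
      rw [h1]
      exact hPt)
    rw [Set.mem_ofPred_eq] at hd'P
    obtain ⟨u, hu, hud⟩ := exists_conj_of_coset hdN (fun y hy h => hdf 1 (by rwa [pow_one]) y hy (by rwa [pow_one])) hd'P
    rw [inv_mul_cancel_right] at hud
    -- `d' = u d u⁻¹` acts freely on the fixed points of `b`
    have hd'N : d' ∈ normalizer ((P : Subgroup S) : Set S) := by
      rw [hud]
      exact mul_mem (mul_mem (le_normalizer hu) hdN) (inv_mem (le_normalizer hu))
    have hfree : ∀ i : ℕ, d' ^ i ≠ 1 → ∀ y ∈ (P : Subgroup S), d' ^ i * y = y * d' ^ i → y = 1 := by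
      intro i hi y hy hc
      have h1 : d' ^ i = u * d ^ i * u⁻¹ := by rw [hud, conj_pow]
      have h2 : d ^ i ≠ 1 := by
        intro h2
        apply hi
        rw [h1, h2]
        group
      have h3 := hdf i h2 (u⁻¹ * y * u) (mul_mem (mul_mem (inv_mem hu) hy) hu) (by
        rw [h1] at hc
        calc d ^ i * (u⁻¹ * y * u) = u⁻¹ * (u * d ^ i * u⁻¹ * y) * u := by group
          _ = u⁻¹ * (y * (u * d ^ i * u⁻¹)) * u := by rw [hc]
          _ = u⁻¹ * y * u * d ^ i := by group)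
      have h4 : y = u * (u⁻¹ * y * u) * u⁻¹ := by group
      rw [h4, h3]
      group
    have hordd' : orderOf d' = e := by
      rw [hud, ← hde]
      exact (MulEquiv.orderOf_eq (MulAut.conj u) d)
    have hdvd : e ∣ p ^ v p (Fx b) - 1 := by
      have h1 : orderOf (MulAut.conj d') ∣
          Nat.card ↥{y : S | y ∈ (Fx b ⊓ (P : Subgroup S) : Subgroup S) ∧ y ≠ 1} := by
        refine Cfsg.Agent.H173.RU.orderOf_dvd_of_free (G := MulAut S) (MulAut.conj d')
          {y : S | y ∈ (Fx b ⊓ (P : Subgroup S) : Subgroup S) ∧ y ≠ 1} ?_ ?_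
        · rintro y ⟨⟨hy1, hy2⟩, hy3⟩
          refine ⟨⟨?_, ?_⟩, ?_⟩
          · show b (d' * y * d'⁻¹) = d' * y * d'⁻¹
            rw [map_mul, map_mul, map_inv, hd'b, (mem_Fx.1 hy1 : b y = y)]
          · exact (mem_normalizer_iff.1 hd'N y).1 hy2
          · intro h
            apply hy3
            have h2 : d' * y * d'⁻¹ = 1 := h
            exact conj_eq_one_iff.1 h2
        · rintro j y ⟨⟨hy1, hy2⟩, hy3⟩ hj
          rw [← map_pow] at hj ⊢
          by_contra hne
          apply hy3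
          refine hfree j (fun h => hne (by rw [h, map_one])) y hy2 ?_
          have h2 : d' ^ j * y * (d' ^ j)⁻¹ = y := hj
          rw [← mul_inv_eq_iff_eq_mul]
          exact h2
      rw [orderOf_conj' hZ, hordd'] at h1
      have h2 : Nat.card ↥{y : S | y ∈ (Fx b ⊓ (P : Subgroup S) : Subgroup S) ∧ y ≠ 1} = p ^ v p (Fx b) - 1 := by
        rw [← hx]
        have h3 : {y : S | y ∈ (Fx b ⊓ (P : Subgroup S) : Subgroup S) ∧ y ≠ 1} =
            ((Fx b ⊓ (P : Subgroup S) : Subgroup S) : Set S) \ {1} := by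
          ext y
          exact ⟨fun h => ⟨h.1, h.2⟩, fun h => ⟨h.1, h.2⟩⟩
        rw [h3, Nat.card_coe_set_eq, Set.ncard_sdiff_singleton_of_mem (one_mem _)]
        rfl
      rwa [h2] at h1
    exact hnum _ hlt hdvd
  · -- a `p'`-element centralising a large subgroup of `P`
    have hbdN : b d ∈ normalizer ((P : Subgroup S) : Set S) := by
      rw [mem_normalizer_iff]
      intro y
      obtain ⟨z, rfl⟩ := b.surjective y
      have h1 : b d * b z * (b d)⁻¹ = b (d * z * d⁻¹) := by rw [map_mul, map_mul, map_inv]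
      show b z ∈ (P : Subgroup S) ↔ b d * b z * (b d)⁻¹ ∈ (P : Subgroup S)
      rw [h1, hbP', hbP']
      exact mem_normalizer_iff.1 hdN z
    obtain ⟨j, hj1, hj2⟩ := exists_prime_power P (mul_mem hbdN (inv_mem hdN)) hk
    have hcj := hc _ hj1 hj2
    obtain ⟨Q', hQ'⟩ : ∃ Q' : Subgroup S, Q' = Fx b ⊓ (P : Subgroup S) := ⟨_, rfl⟩
    rw [← hQ'] at hx
    obtain ⟨R, hR⟩ : ∃ R : Subgroup S, R = Q'.map (MulAut.conj d).toMonoidHom := ⟨_, rfl⟩
    have hRc : Nat.card ↥R = p ^ v p (Fx b) := by rw [hR, card_map', hx]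
    have hQ'P : Q' ≤ (P : Subgroup S) := by rw [hQ']; exact inf_le_right
    have hRP : R ≤ (P : Subgroup S) := by
      rw [hR]
      rintro _ ⟨y, hy, rfl⟩
      exact (mem_normalizer_iff.1 hdN y).1 (hQ'P hy)
    have hcen : Q' ⊓ R ≤ centralizer {(b d * d⁻¹) ^ j} := by
      rintro y ⟨hy1, hy2⟩
      rw [hR] at hy2
      obtain ⟨z, hz, hzy⟩ := hy2
      have hzy' : d * z * d⁻¹ = y := hzy
      have h1 : b y = y := by rw [SetLike.mem_coe, hQ'] at hy1; exact hy1.1
      have h2 : b z = z := by rw [SetLike.mem_coe, hQ'] at hz; exact hz.1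
      have h3 : b d * d⁻¹ * y = y * (b d * d⁻¹) := by
        have h4 : y = b d * z * (b d)⁻¹ := by
          rw [← h1, ← hzy', map_mul, map_mul, map_inv, h2]
        calc b d * d⁻¹ * y = b d * d⁻¹ * (d * z * d⁻¹) := by rw [hzy']
          _ = b d * z * (b d)⁻¹ * (b d * d⁻¹) := by simp only [mul_assoc, inv_mul_cancel_left]
          _ = y * (b d * d⁻¹) := by rw [← h4]
      rw [mem_centralizer_singleton_iff]
      exact ((show Commute (b d * d⁻¹) y from h3).pow_left j).symm.eq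
    have hw : v p ↥(Q' ⊓ R : Subgroup S) ≤ c := (v_mono hcen p).trans hcj
    -- indices in `P`
    have hrel : ∀ {A : Subgroup S} {n : ℕ}, A ≤ (P : Subgroup S) → Nat.card ↥A = p ^ n →
        p ^ n * A.relIndex (P : Subgroup S) = p ^ v p S := by
      intro A n hA hn
      have h1 := card_mul_index (A.subgroupOf (P : Subgroup S))
      rw [Nat.card_congr (subgroupOfEquivOfLe hA).toEquiv, hn, P.card_eq_multiplicity] at h1
      exact h1
    have hwc : Nat.card ↥(Q' ⊓ R : Subgroup S) = p ^ v p ↥(Q' ⊓ R : Subgroup S) := by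
      obtain ⟨n, hn⟩ := IsPGroup.iff_card.1 ((P.isPGroup'.to_le (inf_le_left.trans hQ'P)) :
        IsPGroup p ↥(Q' ⊓ R : Subgroup S))
      have h1 : v p ↥(Q' ⊓ R : Subgroup S) = n := by
        show (Nat.card ↥(Q' ⊓ R : Subgroup S)).factorization p = n
        rw [hn, Nat.Prime.factorization_pow hp.1, Finsupp.single_eq_same]
      rw [h1, hn]
    have e1 := hrel hQ'P hx
    have e2 := hrel hRP hRc
    have e3 := hrel (inf_le_left.trans hQ'P) hwc
    have e4 : (Q' ⊓ R).relIndex (P : Subgroup S) ≤ Q'.relIndex (P : Subgroup S) * R.relIndex (P : Subgroup S) :=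
      relIndex_inf_le
    -- `p ^ v * p ^ (2 v_F) ≤ p ^ w * p ^ (2 v)`
    have e5 : p ^ v p S * (p ^ v p (Fx b) * p ^ v p (Fx b)) ≤
        p ^ v p ↥(Q' ⊓ R : Subgroup S) * (p ^ v p S * p ^ v p S) := by
      calc p ^ v p S * (p ^ v p (Fx b) * p ^ v p (Fx b))
          = p ^ v p ↥(Q' ⊓ R : Subgroup S) * (Q' ⊓ R).relIndex (P : Subgroup S) *
            (p ^ v p (Fx b) * p ^ v p (Fx b)) := by rw [e3]
        _ ≤ p ^ v p ↥(Q' ⊓ R : Subgroup S) * (Q'.relIndex (P : Subgroup S) * R.relIndex (P : Subgroup S)) *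
            (p ^ v p (Fx b) * p ^ v p (Fx b)) := by gcongr
        _ = p ^ v p ↥(Q' ⊓ R : Subgroup S) * ((p ^ v p (Fx b) * Q'.relIndex (P : Subgroup S)) *
            (p ^ v p (Fx b) * R.relIndex (P : Subgroup S))) := by ring
        _ = _ := by rw [e1, e2]
    rw [← pow_add, ← pow_add, ← pow_add, ← pow_add] at e5
    have e6 := (Nat.pow_le_pow_iff_right hp.1.one_lt).1 e5
    omega

end Cfsg.Agent.H874.PD
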